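import Cfsg.Agent.H48.OrSmall.Linear
import Cfsg.Agent.H48.OrIdx.CaseT

/-!
# Trivial image in the radical: a fixed opposite point
-/

set_option autoImplicit false
set_option linter.unusedSectionVars false

namespace H48.OrSmall

open H43 H50.Or H48.OrIdx

universe u w w'

variable {F : Type u} [Field F] [Finite F] {V : Type w} [AddCommGroup V] [Module F V]
  [FiniteDimensional F V] {Q : QuadraticForm F V}
  {W : Type w'} [AddCommGroup W] [Module F W] [FiniteDimensional F W] {Q' : QuadraticForm F W}
  {x y : V} (fr : Frame Q x y Q') (K : Subgroup (Om Q))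

/-- The normalised situation. -/
theorem caseB_small_core {y' : V} (fr : Frame Q x y' Q') (h7 : 7 ≤ Module.finrank F V)
    (hF : Nat.card F ≤ 3) {ψ : AddChar F ℂ} (hψ : ψ.IsPrimitive) (hgood : Good K ψ)
    (hI : Iw fr K = ⊥)
    (hroot : ∀ a v : W, Q' a = 0 → polB Q' a v = 0 → el Q (fr.j a) (fr.j v) ∈ K) :
    ∃ p : V, p ≠ 0 ∧ Q p = 0 ∧ ∀ g ∈ K, g.1.1 p ∈ F ∙ p := by
  classical
  have h5 : 5 ≤ Module.finrank F V := by omega
  haveI : Finite V := Module.finite_of_finite F
  have hx0 := fr.pair.left_ne_zero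
  have hy0 := fr.pair.symm.left_ne_zero
  have hW := finrank_W_ge fr h7
  have key : ∀ a : W, Q' a = 0 → a ≠ 0 → el Q (fr.j a) y' ∈ K := by
    intro a ha ha0
    set c := fr.j a
    have hc : Q c = 0 := by rw [fr.form, ha]
    have hc0 : c ≠ 0 := fun h => ha0 (fr.inj (h.trans (map_zero _).symm))
    have hcx : polB Q c x = 0 := (fr.orth' a).1
    have hcy : polB Q c y' = 0 := (fr.orth' a).2
    obtain ⟨d, hd⟩ := exists_hypPair fr.nd hc hc0
    obtain ⟨fa⟩ := exists_frame fr.nd hd
    haveI := Module.finite_of_finite F (M := ↥((polB Q).orthogonal (Submodule.span F {c, d})))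
    set Qc := Q.restrict ((polB Q).orthogonal (Submodule.span F {c, d}))
    set J := ann ψ (polB Qc) (Iw fa K)
    set px := fa.P x
    set py := fa.P y'
    have hnd := fa.nd'
    have hdc : 5 ≤ Module.finrank F ↥((polB Q).orthogonal (Submodule.span F {c, d})) :=
      finrank_W_ge fa (by omega)
    have hmem : ∀ z, polB Qc px z = 0 → polB Qc py z = 0 → z ∈ Iw fa K := by
      intro z hzx hzy
      have hxR : polB Q x (fa.j z) = 0 := by rw [fa.b_P]; exact hzx
      have hyR : polB Q y' (fa.j z) = 0 := by rw [fa.b_P]; exact hzy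
      obtain ⟨v, hv⟩ := fr.surj _ hxR hyR
      have hav : polB Q' a v = 0 := by
        rw [← fr.bform, hv]
        exact (fa.orth z).1
      rw [mem_Iw fa K h5, ← hv]
      exact hroot a v ha hav
    have hJspan : ∀ k ∈ J, k ∈ Submodule.span F {px, py} := by
      intro k hk
      rw [← LinearMap.BilinForm.orthogonal_orthogonal hnd (polB_isRefl Qc) (Submodule.span F {px, py})]
      intro z hz
      obtain ⟨h1, h2⟩ := mem_orth_pair.1 hz
      exact perp_of_all hψ hk fun t => smul_mem_small hF (hmem z h1 h2) t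
    have hns : ∀ k ∈ J, Qc k = 0 := by
      intro k hk
      by_contra hkq
      have hline := hgood c d fa k hk hkq
      have hle : (polB Qc).orthogonal (Submodule.span F {px, py}) ≤ F ∙ k := fun z hz =>
        hline z (hmem z (mem_orth_pair.1 hz).1 (mem_orth_pair.1 hz).2)
      have h1 := Submodule.finrank_mono hle
      have h2 := finrank_orth_pair hnd px py
      rw [finrank_span_singleton (fun e => hkq (by rw [e, QuadraticMap.map_zero]))] at h1
      omega
    have hxx : polB Qc px px = 0 := by rw [polB_self, P_qmap fa hcx, fr.qx, mul_zero]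
    have hyy : polB Qc py py = 0 := by rw [polB_self, P_qmap fa hcy, fr.pair.right, mul_zero]
    have hxy : polB Qc px py = 1 := by rw [P_form fa hcx hcy, fr.pair.pair]
    have hcoord : ∀ k ∈ J, k = polB Qc k py • px + polB Qc k px • py := by
      intro k hk
      obtain ⟨p, r, rfl⟩ := Submodule.mem_span_pair.1 (hJspan k hk)
      simp [hxx, hyy, hxy, polB_comm py px]
    rw [el_eq_E h5 fa hcy, ← mem_Iw fa K h5, ← ann_ann hψ hnd (fun a b => polB_comm a b) (Iw fa K)]
    by_contra hcon
    obtain ⟨k, hk, hk1⟩ : ∃ k ∈ J, polB Qc k py ≠ 0 := by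
      by_contra hall
      push Not at hall
      exact hcon fun k hk => by rw [hall k hk, AddChar.map_zero_eq_one]
    have hprod : ∀ l ∈ J, polB Qc l py * polB Qc l px = 0 := by
      intro l hl
      have h := hns l hl
      rw [hcoord l hl, qmap_add, qmap_smul, qmap_smul, map_smul, map_smul, LinearMap.smul_apply,
        P_qmap fa hcx, P_qmap fa hcy, fr.qx, fr.pair.right, hxy] at h
      simp only [mul_zero, zero_add, smul_eq_mul, mul_one] at h
      linear_combination h
    have hk2 := (mul_eq_zero.1 (hprod k hk)).resolve_left hk1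
    have hall : ∀ l ∈ J, polB Qc l px = 0 := by
      intro l hl
      by_contra hl2
      have hl1 := (mul_eq_zero.1 (hprod l hl)).resolve_right hl2
      have h := hprod _ (J.add_mem hk hl)
      rw [map_add, LinearMap.add_apply, LinearMap.add_apply, hl1, hk2, add_zero, zero_add] at h
      exact mul_ne_zero hk1 hl2 h
    have hxI : el Q c x ∈ K := by
      rw [el_eq_E h5 fa hcx, ← mem_Iw fa K h5, ← ann_ann hψ hnd (fun a b => polB_comm a b) (Iw fa K)]
      exact fun l hl => by rw [hall l hl, AddChar.map_zero_eq_one]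
    have h2 := el_comm_mem fr.nd h7 hc fr.qx hcx hxI
    rw [← mem_Iw fr K h5, hI, AddSubgroup.mem_bot] at h2
    exact ha0 h2
  -- the radical at the opposite point
  have hfull : FullAt K y' := by
    have hyW : ∀ a : W, polB Q y' (fr.j a) = 0 := fun a => (fr.orth a).2
    have hall : ∀ a : W, ∀ r : F, el Q y' (fr.j (r • a)) ∈ K := by
      obtain ⟨z₀, hz₀0, hz₀⟩ := exists_singular Q' (by omega)
      intro a
      have ha := mem_span_all_singular fr.nd' hz₀0 hz₀ a
      induction ha using Submodule.span_induction with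
      | mem b hb =>
        intro r
        have hb' : Q' (r • b) = 0 := by rw [qmap_smul, show Q' b = 0 from hb, mul_zero]
        by_cases hb0 : r • b = 0
        · rw [hb0, map_zero, el_zero fr.nd h5 fr.pair.right]; exact K.one_mem
        have hn : Q' (-(r • b)) = 0 := by rw [qmap_neg]; exact hb'
        have h1 := key _ hn (neg_ne_zero.2 hb0)
        rwa [el_swap fr.nd h7 fr.pair.right (by rw [fr.form]; exact hn) (hyW _), map_neg, neg_neg] at h1
      | zero => intro r; rw [smul_zero, map_zero, el_zero fr.nd h5 fr.pair.right]; exact K.one_mem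
      | add b b' _ _ hb hb' =>
        intro r
        rw [smul_add, map_add, ← el_mul fr.nd h5 fr.pair.right (hyW _) (hyW _)]
        exact K.mul_mem (hb r) (hb' r)
      | smul s b _ hb => intro r; rw [smul_smul]; exact hb _
    intro v hv
    have e : v = polB Q v x • y' + fr.j (fr.P v) := by
      have := fr.decomp v
      rwa [polB_comm v y', hv, zero_smul, zero_add] at this
    have e' : el Q y' v = el Q y' (fr.j (fr.P v)) := by
      apply Subtype.ext
      rw [coe_el fr.nd h5 fr.pair.right hv, coe_el fr.nd h5 fr.pair.right (hyW _)]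
      conv_lhs => rw [e, add_comm, eichler_add_smul fr.pair.right (hyW _)]
    rw [e']
    simpa using hall (fr.P v) 1
  refine ⟨y', hy0, fr.pair.right, fun g hg => ?_⟩
  by_contra hgy
  set y1 := g.1.1 y' with hy1
  have hy1q : Q y1 = 0 := by rw [hy1, orth_qmap]; exact fr.pair.right
  have hfull1 : FullAt K y1 := hfull.transport fr.nd h7 fr.pair.right hg
  have hd := fr.decomp y1
  set β := polB Q y1 x
  set α := polB Q y1 y'
  set w := fr.P y1
  have hq : α * β + Q' w = 0 := by rw [← qmap_coords fr, ← hd, hy1q]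
  by_cases hα : α = 0
  · rw [hα, zero_smul, zero_add] at hd
    rw [hα, zero_mul, zero_add] at hq
    have hw0 : w ≠ 0 := fun h => hgy (by
      rw [hd, h, map_zero, add_zero]
      exact Submodule.smul_mem _ _ (Submodule.mem_span_singleton_self y'))
    obtain ⟨v, hv⟩ := exists_polB_eq fr.nd' hw0 β
    have hyv : polB Q y' (fr.j v) = 0 := (fr.orth v).2
    have hmem := hfull _ hyv
    have h1 := hfull1.transport fr.nd h7 hy1q hmem
    have e : (el Q y' (fr.j v)).1.1 y1 = fr.j w := by
      rw [apply_el fr.nd h7 fr.pair.right hyv, hd]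
      simp [fr.bform, hv, fr.pair.pair, fr.pair.symm.pair, polB_self, fr.pair.right, (fr.orth' w).2,
        (fr.orth v).2]
    rw [e] at h1
    have hwx : polB Q (fr.j w) x = 0 := (fr.orth' w).1
    have h2 := h1 x hwx
    rw [el_swap fr.nd h7 fr.qx (by rw [fr.form]; exact hq) (fr.orth w).1, ← map_neg, ← mem_Iw fr K h5, hI,
      AddSubgroup.mem_bot, neg_eq_zero] at h2
    exact hw0 h2
  · set v := (-α⁻¹) • w
    have hyv : polB Q y' (fr.j v) = 0 := (fr.orth v).2
    have hmem := hfull _ hyv
    have h1 := hfull1.transport fr.nd h7 hy1q hmem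
    have e : (el Q y' (fr.j v)).1.1 y1 = α • x := by
      rw [apply_el fr.nd h7 fr.pair.right hyv, hd]
      simp [v, fr.bform, qmap_smul, fr.form, fr.pair.pair, fr.pair.symm.pair, polB_self, fr.pair.right,
        (fr.orth' w).2, (fr.orth w).2, (fr.orth w).1, (fr.orth' w).1]
      match_scalars <;> field_simp
      all_goals (first | ring1 | linear_combination hq | linear_combination -hq | linear_combination 2 * hq)
    rw [e] at h1
    obtain ⟨z₀, hz₀0, hz₀⟩ := exists_singular Q' (by omega)
    have h2 := h1 (fr.j z₀) (by rw [map_smul, LinearMap.smul_apply, (fr.orth z₀).1, smul_zero])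
    rw [el_smul_left fr.nd h7 fr.qx (fr.orth z₀).1 hα, ← map_smul, ← mem_Iw fr K h5, hI,
      AddSubgroup.mem_bot, smul_eq_zero] at h2
    exact hz₀0 (h2.resolve_left hα)

/-- Trivial image at a point: a singular point is fixed. -/
theorem caseB_small (h7 : 7 ≤ Module.finrank F V) (hF : Nat.card F ≤ 3) {ψ : AddChar F ℂ}
    (hψ : ψ.IsPrimitive) (hgood : Good K ψ) (hI : Iw fr K = ⊥) (hst : stab Q x ≤ Lft fr K) :
    ∃ p : V, p ≠ 0 ∧ Q p = 0 ∧ ∀ g ∈ K, g.1.1 p ∈ F ∙ p := by
  have hW := finrank_W_ge fr h7
  obtain ⟨y', fr', hI', -, hroot⟩ := exists_good_frame fr K h7 hI hst hW hF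
    (fun a b ha0 ha hb hab hba => plane_all fr K h7 hI hst hW hF hψ hgood ha0 ha hb hab hba)
  exact caseB_small_core K fr' h7 hF hψ hgood hI' hroot

end H48.OrSmall
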