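import Cfsg.Agent.H48.OrSmall.Roots

/-!
# Invariant images and all root elements over the field with two elements
-/

set_option autoImplicit false
set_option linter.unusedSectionVars false

namespace H48.OrSmall

open H43 H50.Or H48.OrIdx

universe u w w'

variable {F : Type u} [Field F] [Finite F]

theorem eq_one_of_card_two (hF : Nat.card F = 2) {c : F} (hc : c ≠ 0) : c = 1 := by
  classical
  haveI := Fintype.ofFinite F
  have e : ({0, 1} : Finset F) = Finset.univ := Finset.eq_univ_of_card _ (by
    rw [Finset.card_pair zero_ne_one, ← Nat.card_eq_fintype_card, hF])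
  have := Finset.mem_univ c
  rw [← e] at this
  simpa [hc] using this

theorem two_eq_zero_of_card_two (hF : Nat.card F = 2) : (2 : F) = 0 := by
  by_contra h
  have h1 := eq_one_of_card_two hF h
  exact one_ne_zero (by linear_combination h1 : (1 : F) = 0)

theorem eq_of_card_three (hF : Nat.card F = 3) (c : F) : c = 0 ∨ c = 1 ∨ c = -1 := by
  classical
  haveI := Fintype.ofFinite F
  have h2 : (2 : F) ≠ 0 := fun h => by
    have := FiniteField.even_card_of_char_two (F := F)
      (CharP.ringChar_of_prime_eq_zero Nat.prime_two (by exact_mod_cast h))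
    rw [← Nat.card_eq_fintype_card, hF] at this
    omega
  have hne : (1 : F) ≠ -1 := fun h => h2 (by linear_combination h)
  have e : ({0, 1, -1} : Finset F) = Finset.univ := Finset.eq_univ_of_card _ (by
    rw [Finset.card_insert_of_notMem (by simp), Finset.card_pair hne, ← Nat.card_eq_fintype_card, hF])
  have := Finset.mem_univ c
  rw [← e] at this
  simpa using this

variable {V : Type w} [AddCommGroup V] [Module F V]

/-- Over the fields with two and three elements an additive subgroup is a subspace. -/
theorem smul_mem_small (hF : Nat.card F ≤ 3) {A : AddSubgroup V} {v : V} (hv : v ∈ A) (c : F) :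
    c • v ∈ A := by
  have h2 := two_le_q (F := F)
  have key : c = 0 ∨ c = 1 ∨ c = -1 := by
    rcases (show Nat.card F = 2 ∨ Nat.card F = 3 by omega) with h | h
    · rcases eq_or_ne c 0 with hc | hc
      · exact Or.inl hc
      · exact Or.inr (Or.inl (eq_one_of_card_two h hc))
    · exact eq_of_card_three h c
  rcases key with rfl | rfl | rfl
  · rw [zero_smul]; exact A.zero_mem
  · rwa [one_smul]
  · rw [neg_one_smul]; exact A.neg_mem hv

variable [FiniteDimensional F V] {Q : QuadraticForm F V}
  {W : Type w'} [AddCommGroup W] [Module F W] [FiniteDimensional F W] {Q' : QuadraticForm F W}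
  {x y : V} (fr : Frame Q x y Q') (K : Subgroup (Om Q))

/-- The characteristic two version of `invariant_cases`. -/
theorem invariant_two (hF : Nat.card F = 2) (h7 : 7 ≤ Module.finrank F V) (hW : 6 ≤ Module.finrank F W)
    {j : W} (hjq : Q' j ≠ 0)
    (hroots : ∀ a b : W, Q' a = 0 → Q' b = 0 → polB Q' a b = 0 → polB Q' j a = 0 → polB Q' j b = 0 →
      a ≠ 0 → b ∉ F ∙ a → el Q (fr.j a) (fr.j (j + b)) ∈ Lft fr K) :
    (∀ u, polB Q' j u = 0 → u ∈ Iw fr K) ∨ ∀ i ∈ Iw fr K, i ∈ F ∙ j := by
  classical
  have h5 : 5 ≤ Module.finrank F V := by omega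
  have h2 := two_eq_zero_of_card_two hF
  have hnd := fr.nd'
  have hj0 : j ≠ 0 := fun h => hjq (by rw [h, QuadraticMap.map_zero])
  have hjj : polB Q' j j = 0 := by rw [polB_self, h2, zero_mul]
  have hqj : Q' j = 1 := eq_one_of_card_two hF hjq
  by_cases hall : ∀ i ∈ Iw fr K, i ∈ F ∙ j
  · exact Or.inr hall
  simp only [not_forall] at hall
  obtain ⟨i₀, hi₀, hi₀j⟩ := hall
  refine Or.inl ?_
  have hnotj : ∀ z, z ≠ 0 → Q' z = 0 → z ∉ F ∙ j := fun z h1 h2 => not_mem_span_of_qmap hjq h2 h1
  have step : ∀ i ∈ Iw fr K, ∀ a, Q' a = 0 → polB Q' j a = 0 → polB Q' i a = 1 → a ∈ Iw fr K := by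
    intro i hi a ha hja hia
    have ha0 : a ≠ 0 := fun h => by rw [h, map_zero] at hia; exact zero_ne_one hia
    have hf : ∀ b, Q' b = 0 → polB Q' a b = 0 → polB Q' j b = 0 → b ∉ F ∙ a →
        (j + b) - (polB Q' i (j + b) + 1) • a ∈ Iw fr K := by
      intro b hb hab hjb hba
      have hmem := Lft_smul_Iw fr K h5 (hroots a b ha hb hab hja hjb ha0 hba) hi
      have hqa : Q (fr.j a) = 0 := by rw [fr.form, ha]
      have hav : polB Q' a (j + b) = 0 := by rw [map_add, polB_comm a j, hja, hab, add_zero]
      have hqv : polB Q (fr.j a) (fr.j (j + b)) = 0 := by rw [fr.bform, hav]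
      have hfix : (el Q (fr.j a) (fr.j (j + b))).1.1 x = x :=
        el_fix fr.nd h7 hqa hqv (fr.orth a).1 (fr.orth _).1
      have hv1 : Q' (j + b) = 1 := by rw [qmap_add, hqj, hb, hjb, add_zero, add_zero]
      rw [lam_of_fix fr hfix, one_smul, apply_el fr.nd h7 hqa hqv, fr.bform, fr.bform, fr.form, hia,
        hv1, one_mul, one_smul, one_smul] at hmem
      simp only [map_add, map_sub, map_smul, fr.P_j] at hmem
      have := (Iw fr K).sub_mem hmem hi
      convert this using 1
      rw [map_add, add_smul, one_smul]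
      abel
    obtain ⟨a', ha', haa', hja'⟩ := exists_orth_singular hnd (U := F ∙ j) ha (hnotj a ha0 ha)
      (fun z hz => by
        obtain ⟨r, rfl⟩ := Submodule.mem_span_singleton.1 hz
        rw [map_smul, LinearMap.smul_apply, hja, smul_zero])
    obtain ⟨b, hbX, hb0, hb⟩ := exists_singular_in (Q := Q')
      ((polB Q').orthogonal (Submodule.span F {a', j}) ⊓ (polB Q').orthogonal (F ∙ a)) (by
      have h1 := Submodule.finrank_sup_add_finrank_inf_eq
        ((polB Q').orthogonal (Submodule.span F {a', j})) ((polB Q').orthogonal (F ∙ a))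
      have h2' := finrank_orth_pair hnd a' j
      have h3 := finrank_orth_singleton hnd ha0
      have h4 := Submodule.finrank_le ((polB Q').orthogonal (Submodule.span F {a', j}) ⊔
        (polB Q').orthogonal (F ∙ a))
      omega)
    obtain ⟨hb1, hb2⟩ := hbX
    obtain ⟨ha'b, hjb⟩ := mem_orth_pair.1 hb1
    have hab := mem_orth_singleton.1 hb2
    have hbn : b ∉ Submodule.span F {a, j} := fun h => by
      obtain ⟨p, r, hpr⟩ := Submodule.mem_span_pair.1 h
      have h1 := ha'b
      rw [← hpr, map_add, map_smul, map_smul, polB_comm a' a, haa', polB_comm a' j,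
        hja' j (Submodule.mem_span_singleton_self j), smul_eq_mul, mul_one, smul_zero, add_zero] at h1
      rw [h1, zero_smul, zero_add] at hpr
      have h3 := hb
      rw [← hpr, qmap_smul, mul_eq_zero, mul_self_eq_zero] at h3
      exact hb0 (by rw [← hpr, h3.resolve_right hjq, zero_smul])
    obtain ⟨b', hb', hbb', hb'U⟩ := exists_orth_singular hnd hb hbn (fun z hz => by
      obtain ⟨p, r, rfl⟩ := Submodule.mem_span_pair.1 hz
      simp [hab, hjb])
    have hab' := hb'U a (Submodule.subset_span (by simp))
    have hjb' := hb'U j (Submodule.subset_span (by simp))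
    have hbj : polB Q' b j = 0 := by rw [polB_comm]; exact hjb
    have hb'j : polB Q' b' j = 0 := by rw [polB_comm]; exact hjb'
    have hb'' : Q' (b + b' + j) = 0 := by
      rw [qmap_add, qmap_add, hb, hb', hbb', hqj, map_add, LinearMap.add_apply, hbj, hb'j]
      linear_combination h2
    have hn1 : b ∉ F ∙ a := fun h => hbn (Submodule.span_mono (by simp) h)
    have hn2 : b' ∉ F ∙ a := fun h => by
      obtain ⟨r, hr⟩ := Submodule.mem_span_singleton.1 h
      rw [← hr, map_smul, polB_comm b a, hab, smul_zero] at hbb'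
      exact zero_ne_one hbb'
    have hn3 : b + b' + j ∉ F ∙ a := fun h => by
      obtain ⟨r, hr⟩ := Submodule.mem_span_singleton.1 h
      have h1 : polB Q' b (r • a) = polB Q' b (b + b' + j) := by rw [hr]
      rw [map_smul, polB_comm b a, hab, smul_zero, map_add, map_add, polB_self, hb, mul_zero, hbb', hbj] at h1
      simp at h1
    have h1 := hf b hb hab hjb hn1
    have h3 := hf b' hb' hab' hjb' hn2
    have h4 := hf (b + b' + j) hb'' (by rw [map_add, map_add, hab, hab', polB_comm a j, hja]; simp)
      (by rw [map_add, map_add, hjb, hjb', hjj]; simp) hn3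
    have h6 := (Iw fr K).add_mem ((Iw fr K).add_mem h1 h3) h4
    convert h6 using 1
    simp only [map_add]
    match_scalars
    all_goals (first | ring1 | linear_combination h2 | linear_combination -h2 | linear_combination -2 * h2 |
      linear_combination (polB Q' i j + 1) * h2 + (polB Q' i b + polB Q' i b') * h2 + polB Q' i j * h2 |
      linear_combination (2 * polB Q' i j + polB Q' i b + polB Q' i b' + 2) * h2)
  obtain ⟨z₀, hz₀U, hz₀0, hz₀⟩ := exists_singular_in (Q := Q') ((polB Q').orthogonal (F ∙ j)) (by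
    have := finrank_orth_singleton hnd hj0
    omega)
  obtain ⟨y₀, hy₀, hzy⟩ := exists_polB_ne_of_notMem hnd (hnotj z₀ hz₀0 hz₀)
  obtain ⟨y₁, hy₁, hiy⟩ := exists_polB_ne_of_notMem hnd hi₀j
  obtain ⟨a, haU, ha, hia⟩ : ∃ a, a ∈ (polB Q').orthogonal (F ∙ j) ∧ Q' a = 0 ∧ polB Q' i₀ a ≠ 0 := by
    by_contra hcon
    push Not at hcon
    apply hiy
    have hspan := mem_span_singular hz₀U hz₀ hy₀ hzy hy₁
    clear hy₁ hiy
    induction hspan using Submodule.span_induction with
    | mem z hz => exact hcon z hz.1 hz.2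
    | zero => simp
    | add p r _ _ hp hr => simp [hp, hr]
    | smul s p _ hp => simp [hp]
  have hja := mem_orth_singleton.1 haU
  have haI := step i₀ hi₀ a ha hja (eq_one_of_card_two hF hia)
  have ha0 : a ≠ 0 := fun h => hia (by rw [h, map_zero])
  have hsing : ∀ c, Q' c = 0 → polB Q' j c = 0 → c ∈ Iw fr K := by
    intro c hc hjc
    by_cases hac : polB Q' a c = 0
    swap
    · exact step a haI c hc hjc (eq_one_of_card_two hF hac)
    by_cases hmem : a ∈ Submodule.span F {a + c, j}
    · obtain ⟨p, r, hpr⟩ := Submodule.mem_span_pair.1 hmem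
      by_cases hp : p = 0
      · rw [hp, zero_smul, zero_add] at hpr
        exact absurd (Submodule.mem_span_singleton.2 ⟨r, hpr⟩) (hnotj a ha0 ha)
      · rw [eq_one_of_card_two hF hp, one_smul] at hpr
        have hc' : c = -(r • j) := by
          rw [← sub_eq_zero]
          have := sub_eq_zero.2 hpr
          rw [← this]
          abel
        rcases eq_or_ne c 0 with rfl | hc0
        · exact (Iw fr K).zero_mem
        · exact absurd (Submodule.mem_span_singleton.2 ⟨-r, by rw [hc', neg_smul]⟩) (hnotj c hc0 hc)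
    obtain ⟨y, hy, hay⟩ := exists_orth_polB_eq hnd hmem 1
    have hy1 := hy (a + c) (Submodule.subset_span (by simp))
    have hjy := hy j (Submodule.subset_span (by simp))
    rw [map_add, LinearMap.add_apply, hay] at hy1
    set d := y + Q' y • a
    have hd : Q' d = 0 := by
      rw [qmap_add, qmap_smul, ha, map_smul, polB_comm y a, hay, smul_eq_mul]
      linear_combination Q' y * h2
    have had : polB Q' a d = 1 := by simp [d, hay, polB_self, ha]
    have hcd : polB Q' c d = 1 := by
      simp [d, polB_comm c a, hac]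
      linear_combination hy1 - h2
    exact step d (step a haI d hd (by simp [d, hjy, hja]) had) c hc hjc (by rw [polB_comm]; exact hcd)
  intro u hu
  have hspan := mem_span_singular hz₀U hz₀ hy₀ hzy (mem_orth_singleton.2 hu)
  clear hu
  induction hspan using Submodule.span_induction with
  | mem z hz => exact hsing z hz.2 (mem_orth_singleton.1 hz.1)
  | zero => exact (Iw fr K).zero_mem
  | add p r _ _ hp hr => exact (Iw fr K).add_mem hp hr
  | smul s p _ hp => exact smul_mem_small (by omega) hp s

/-- All root elements from the restricted ones. -/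
theorem all_roots_two (hF : Nat.card F = 2) (h7 : 7 ≤ Module.finrank F V) (hW : 6 ≤ Module.finrank F W)
    (hroots : ∀ j : W, Q' j ≠ 0 →
      ∀ a b : W, Q' a = 0 → Q' b = 0 → polB Q' a b = 0 → polB Q' j a = 0 → polB Q' j b = 0 →
        a ≠ 0 → b ∉ F ∙ a → el Q (fr.j a) (fr.j (j + b)) ∈ Lft fr K) :
    ∀ a v : W, Q' a = 0 → polB Q' a v = 0 → el Q (fr.j a) (fr.j v) ∈ Lft fr K := by
  classical
  have h5 : 5 ≤ Module.finrank F V := by omega
  have h2 := two_eq_zero_of_card_two hF
  have hnd := fr.nd'
  intro a v ha hav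
  have hqa : Q (fr.j a) = 0 := by rw [fr.form, ha]
  by_cases ha0 : a = 0
  · subst ha0
    have : el Q (fr.j (0 : W)) (fr.j v) = 1 := Subtype.ext (orth_ext fun z => by
      rw [coe_el fr.nd h5 (by rw [map_zero, QuadraticMap.map_zero]) (by simp),
        eichler_apply (by rw [map_zero, QuadraticMap.map_zero]) (by simp)]
      simp [orth_one_apply])
    rw [this]
    exact one_mem _
  have nonsing : ∀ w : W, polB Q' a w = 0 → Q' w ≠ 0 → el Q (fr.j a) (fr.j w) ∈ Lft fr K := by
    intro w haw hw
    obtain ⟨y₀, hy₀⟩ := exists_polB_eq hnd ha0 1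
    obtain ⟨b, hbX, hb0, hb⟩ := exists_singular_in (Q := Q')
      ((polB Q').orthogonal (Submodule.span F {y₀, w}) ⊓ (polB Q').orthogonal (F ∙ a)) (by
      have h1 := Submodule.finrank_sup_add_finrank_inf_eq
        ((polB Q').orthogonal (Submodule.span F {y₀, w})) ((polB Q').orthogonal (F ∙ a))
      have h2' := finrank_orth_pair hnd y₀ w
      have h3 := finrank_orth_singleton hnd ha0
      have h4 := Submodule.finrank_le ((polB Q').orthogonal (Submodule.span F {y₀, w}) ⊔
        (polB Q').orthogonal (F ∙ a))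
      omega)
    obtain ⟨hb1, hb2⟩ := hbX
    obtain ⟨hyb, hwb⟩ := mem_orth_pair.1 hb1
    have hab := mem_orth_singleton.1 hb2
    have hbn : b ∉ F ∙ a := fun h => by
      obtain ⟨r, hr⟩ := Submodule.mem_span_singleton.1 h
      rw [← hr, map_smul, polB_comm y₀ a, hy₀, smul_eq_mul, mul_one] at hyb
      exact hb0 (by rw [← hr, hyb, zero_smul])
    have hq : Q' (w + b) = Q' w := by rw [qmap_add, hb, hwb, add_zero, add_zero]
    have e : w + b + b = w := by rw [add_assoc, ← two_smul F b, h2, zero_smul, add_zero]
    have := hroots (w + b) (by rwa [hq]) a b ha hb hab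
      (by rw [map_add, LinearMap.add_apply, polB_comm w a, haw, polB_comm b a, hab, add_zero])
      (by rw [map_add, LinearMap.add_apply, hwb, polB_self, hb, mul_zero, add_zero]) ha0 hbn
    rwa [e] at this
  by_cases hv : Q' v ≠ 0
  · exact nonsing v hav hv
  rw [not_ne_iff] at hv
  obtain ⟨j0, hj0, haj0, hvj0⟩ := exists_nonsing_perp fr (by omega) a v
  have hqj : Q' j0 = 1 := eq_one_of_card_two hF hj0
  have hs : Q' (v + j0) ≠ 0 := by rw [qmap_add, hv, hqj, polB_comm, hvj0]; simp
  have e : v = (v + j0) + j0 := by rw [add_assoc, ← two_smul F j0, h2, zero_smul, add_zero]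
  rw [e, map_add, ← el_mul fr.nd h5 hqa (by rw [fr.bform, map_add, hav, polB_comm a, haj0, add_zero])
    (by rw [fr.bform, polB_comm, haj0])]
  exact mul_mem (nonsing _ (by rw [map_add, hav, polB_comm a, haj0, add_zero]) hs)
    (nonsing _ (by rw [polB_comm, haj0]) hj0)

end H48.OrSmall
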