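import Cfsg.Agent.H48.OrIdx.Local
import Cfsg.Agent.H48.OrSmall.Invariant

/-!
# Sharp lower bounds for the levels
-/

set_option autoImplicit false
set_option linter.unusedSectionVars false

namespace H48.OrSmall

open H43 H50.Or H48.OrIdx

universe u w w'

variable {F : Type u} [Field F] [Finite F]

/-- Odd dimension. -/
theorem level_ge_odd : ∀ (k : ℕ) {V : Type w} [AddCommGroup V] [Module F V] [FiniteDimensional F V]
    {Q : QuadraticForm F V}, (polB Q).Nondegenerate → Module.finrank F V = 2 * k + 1 →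
    ∀ c : F, Nat.card F ^ (2 * k) ≤ level Q c + Nat.card F ^ k
  | 0, V, _, _, _, Q, _, _, c => by simp
  | k + 1, V, _, _, _, Q, hQ, hd, c => by
    obtain ⟨x, y, ⟨fr⟩⟩ := exists_any_frame hQ (by omega)
    have hW := fr.finrank_eq
    have h := level_ge_odd k fr.nd' (by omega) c
    obtain ⟨p, hp⟩ : ∃ p, Nat.card F = p + 1 := ⟨Nat.card F - 1, by
      have : 0 < Nat.card F := Nat.card_pos
      omega⟩
    rw [level_rec fr c, show Module.finrank F _ = 2 * k + 1 by omega]
    rw [hp] at h ⊢
    rw [Nat.add_sub_cancel, show 2 * (k + 1) = 2 * k + 2 by ring]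
    calc (p + 1) ^ (2 * k + 2) = (p + 1) * (p + 1) ^ (2 * k) + p * (p + 1) ^ (2 * k + 1) := by ring
      _ ≤ (p + 1) * (level _ c + (p + 1) ^ k) + p * (p + 1) ^ (2 * k + 1) := by gcongr
      _ = _ := by ring

theorem level_two_ge (hF : Nat.card F ≤ 3) {V : Type w} [AddCommGroup V] [Module F V]
    [FiniteDimensional F V] {Q : QuadraticForm F V} (hQ : (polB Q).Nondegenerate)
    (hd : Module.finrank F V = 2) {c : F} (hc : c ≠ 0) : Nat.card F ≤ level Q c + 1 := by
  classical
  haveI : Finite V := Module.finite_of_finite F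
  obtain ⟨v, hv⟩ := exists_qmap_eq hQ (by omega) c hc
  have h2 := two_le_q (F := F)
  rcases (show Nat.card F = 2 ∨ Nat.card F = 3 by omega) with h | h
  · rw [h]
    haveI : Nonempty {v : V // Q v = c} := ⟨⟨v, hv⟩⟩
    have : 0 < level Q c := Nat.card_pos
    omega
  · rw [h]
    have hne : v ≠ -v := fun e => by
      have h1 : (2 : F) • v = 0 := by rw [two_smul]; exact add_eq_zero_iff_eq_neg.2 e
      rcases smul_eq_zero.1 h1 with h3 | h3
      · haveI := Fintype.ofFinite F
        have := FiniteField.even_card_of_char_two (F := F)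
          (CharP.ringChar_of_prime_eq_zero Nat.prime_two (by exact_mod_cast h3))
        rw [← Nat.card_eq_fintype_card, h] at this
        omega
      · exact hc (by rw [← hv, h3, QuadraticMap.map_zero])
    have : 2 ≤ level Q c := by
      rw [← Set.ncard_pair hne, ← Nat.card_coe_set_eq]
      refine Nat.card_mono (Set.toFinite {w : V | Q w = c}) ?_
      rintro w (rfl | rfl)
      · exact hv
      · show Q (-v) = c
        rw [qmap_neg, hv]
    omega

/-- Even dimension. -/
theorem level_ge_even (hF : Nat.card F ≤ 3) : ∀ (k : ℕ) {V : Type w} [AddCommGroup V] [Module F V]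
    [FiniteDimensional F V] {Q : QuadraticForm F V}, (polB Q).Nondegenerate →
    Module.finrank F V = 2 * k + 2 → ∀ c : F, c ≠ 0 →
      Nat.card F ^ (2 * k + 1) ≤ level Q c + Nat.card F ^ k
  | 0, V, _, _, _, Q, hQ, hd, c, hc => by
    simpa using level_two_ge hF hQ hd hc
  | k + 1, V, _, _, _, Q, hQ, hd, c, hc => by
    obtain ⟨x, y, ⟨fr⟩⟩ := exists_any_frame hQ (by omega)
    have hW := fr.finrank_eq
    have h := level_ge_even hF k fr.nd' (by omega) c hc
    obtain ⟨p, hp⟩ : ∃ p, Nat.card F = p + 1 := ⟨Nat.card F - 1, by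
      have : 0 < Nat.card F := Nat.card_pos
      omega⟩
    rw [level_rec fr c, show Module.finrank F _ = 2 * k + 2 by omega]
    rw [hp] at h ⊢
    rw [Nat.add_sub_cancel, show 2 * (k + 1) + 1 = 2 * k + 3 by ring]
    calc (p + 1) ^ (2 * k + 3) = (p + 1) * (p + 1) ^ (2 * k + 1) + p * (p + 1) ^ (2 * k + 2) := by ring
      _ ≤ (p + 1) * (level _ c + (p + 1) ^ k) + p * (p + 1) ^ (2 * k + 2) := by gcongr
      _ = _ := by ring

variable {V : Type w} [AddCommGroup V] [Module F V] [FiniteDimensional F V] {Q : QuadraticForm F V}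
  {W : Type w'} [AddCommGroup W] [Module F W] [FiniteDimensional F W] {Q' : QuadraticForm F W}
  {x y : V} (fr : Frame Q x y Q')

/-- An orbit of classes contains a whole level. -/
theorem level_le_clsOrbit (h7 : 7 ≤ Module.finrank F V) {j : W} (hjq : Q' j ≠ 0) :
    level Q' (Q' j) ≤ Nat.card (clsOrbit fr j) := by
  haveI : Finite W := Module.finite_of_finite F
  exact Nat.card_le_card_of_injective
    (fun v : {v : W // Q' v = Q' j} => ⟨v.1, mem_clsOrbit fr h7 hjq one_ne_zero (by
      rw [one_mul, one_mul]; exact v.2)⟩)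
    fun a b h => Subtype.ext (congrArg Subtype.val h : _)

end H48.OrSmall
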