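import Cfsg.Agent.H48.OrSmall.Invariant
import Cfsg.Agent.H48.OrIdx.CaseB

/-!
# Lifts of the root elements when the image in the radical is trivial
-/

set_option autoImplicit false
set_option linter.unusedSectionVars false

namespace H48.OrSmall

open H43 H50.Or H48.OrIdx

universe u w w'

variable {F : Type u} [Field F] [Finite F] {V : Type w} [AddCommGroup V] [Module F V]
  [FiniteDimensional F V] {Q : QuadraticForm F V}
  {W : Type w'} [AddCommGroup W] [Module F W] [FiniteDimensional F W] {Q' : QuadraticForm F W}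
  {x y : V} (fr : Frame Q x y Q') (K : Subgroup (Om Q))

/-- A root element of the Levi factor. -/
noncomputable def gr (a v : W) : Om Q := el Q (fr.j a) (fr.j v)

/-- The action on the complement. -/
noncomputable def rho (g : Om Q) (z : W) : W := fr.P (g.1.1 (fr.j z))

/-- The radical part of the lift. -/
noncomputable def cw (g : Om Q) : W :=
  Classical.epsilon fun w => el Q x (fr.j w) * g ∈ K

/-- The image of a lift lies in the plane of the root element. -/
def PlaneLift (a b : W) : Prop :=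
  ∀ c, polB Q' a c = 0 → polB Q' b c = 0 → polB Q' (cw fr K (gr fr a b)) c = 0

section basic

variable (h7 : 7 ≤ Module.finrank F V)

include h7

theorem gr_mem_stab {a v : W} (ha : Q' a = 0) (hav : polB Q' a v = 0) : gr fr a v ∈ stab Q x :=
  mem_stab.2 (el_fix fr.nd h7 (by rw [fr.form, ha]) (by rw [fr.bform, hav]) (fr.orth a).1 (fr.orth v).1)

theorem gr_apply_j {a v : W} (ha : Q' a = 0) (hav : polB Q' a v = 0) (z : W) :
    (gr fr a v).1.1 (fr.j z) =
      fr.j (z + polB Q' z a • v - polB Q' z v • a - (Q' v * polB Q' z a) • a) := by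
  rw [gr, apply_el fr.nd h7 (by rw [fr.form, ha]) (by rw [fr.bform, hav]), fr.bform, fr.bform, fr.form]
  simp only [map_add, map_sub, map_smul]

theorem rho_gr {a v : W} (ha : Q' a = 0) (hav : polB Q' a v = 0) (z : W) :
    rho fr (gr fr a v) z = z + polB Q' z a • v - polB Q' z v • a - (Q' v * polB Q' z a) • a := by
  rw [rho, gr_apply_j fr h7 ha hav, fr.P_j]

theorem B_rho {a v : W} (ha : Q' a = 0) (hav : polB Q' a v = 0) (z c : W) :
    polB Q' (rho fr (gr fr a v) z) c = polB Q' z c + polB Q' z a * polB Q' v c -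
      polB Q' z v * polB Q' a c - Q' v * polB Q' z a * polB Q' a c := by
  rw [rho_gr fr h7 ha hav]
  simp

theorem gr_add {a v v' : W} (ha : Q' a = 0) (hv : polB Q' a v = 0) (hv' : polB Q' a v' = 0) :
    gr fr a v * gr fr a v' = gr fr a (v + v') := by
  rw [gr, gr, gr, el_mul fr.nd (by omega) (by rw [fr.form, ha]) (by rw [fr.bform, hv])
    (by rw [fr.bform, hv']), map_add]

theorem gr_zero {a : W} (ha : Q' a = 0) : gr fr a 0 = 1 := by
  rw [gr, map_zero, el_zero fr.nd (by omega) (by rw [fr.form, ha])]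

theorem gr_add_self {a v : W} (ha : Q' a = 0) (hv : polB Q' a v = 0) (t : F) :
    gr fr a (v + t • a) = gr fr a v := by
  have h5 : 5 ≤ Module.finrank F V := by omega
  have hqa : Q (fr.j a) = 0 := by rw [fr.form, ha]
  have hp : polB Q (fr.j a) (fr.j v) = 0 := by rw [fr.bform, hv]
  apply Subtype.ext
  rw [gr, gr, map_add, map_smul,
    coe_el fr.nd h5 hqa (by rw [map_add, hp, map_smul, polB_self, hqa, mul_zero, smul_zero, add_zero]),
    coe_el fr.nd h5 hqa hp, eichler_add_smul hqa hp]

theorem gr_conj {a v a' v' : W} (ha : Q' a = 0) (hv : polB Q' a v = 0) (ha' : Q' a' = 0)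
    (hv' : polB Q' a' v' = 0) :
    gr fr a v * gr fr a' v' * (gr fr a v)⁻¹ =
      gr fr (rho fr (gr fr a v) a') (rho fr (gr fr a v) v') := by
  rw [show gr fr a' v' = el Q (fr.j a') (fr.j v') from rfl,
    el_conj fr.nd (by omega) _ (by rw [fr.form, ha']) (by rw [fr.bform, hv']), gr_apply_j fr h7 ha hv,
    gr_apply_j fr h7 ha hv, rho_gr fr h7 ha hv, rho_gr fr h7 ha hv]
  rfl

variable (hI : Iw fr K = ⊥) (hst : stab Q x ≤ Lft fr K)

include hst in
theorem cw_spec {g : Om Q} (hg : g ∈ stab Q x) : el Q x (fr.j (cw fr K g)) * g ∈ K := by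
  obtain ⟨-, w, hw⟩ := (mem_Lft fr K (by omega)).1 (hst hg)
  exact Classical.epsilon_spec (p := fun w => el Q x (fr.j w) * g ∈ K) ⟨w, hw⟩

include hI hst

theorem cw_unique {g : Om Q} (hg : g ∈ stab Q x) {w : W} (hw : el Q x (fr.j w) * g ∈ K) :
    cw fr K g = w := by
  have h5 : 5 ≤ Module.finrank F V := by omega
  have h := K.mul_mem (cw_spec fr K h7 hst hg) (K.inv_mem hw)
  rw [mul_inv_rev, mul_assoc, mul_inv_cancel_left, el_neg fr h5, el_add fr h5, ← mem_Iw fr K h5, hI,
    AddSubgroup.mem_bot, ← sub_eq_add_neg, sub_eq_zero] at h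
  exact h

theorem cw_one : cw fr K (1 : Om Q) = 0 :=
  cw_unique fr K h7 hI hst (one_mem _) (by rw [el_zero' fr (by omega), one_mul]; exact K.one_mem)

theorem cw_mul {g h : Om Q} (hg : g ∈ stab Q x) (hh : h ∈ stab Q x) :
    cw fr K (g * h) = cw fr K g + rho fr g (cw fr K h) := by
  have h5 : 5 ≤ Module.finrank F V := by omega
  refine cw_unique fr K h7 hI hst (mul_mem hg hh) ?_
  have h1 := K.mul_mem (cw_spec fr K h7 hst hg) (cw_spec fr K h7 hst hh)
  have e : g * el Q x (fr.j (cw fr K h)) = el Q x (fr.j (rho fr g (cw fr K h))) * g := by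
    have := conj_el fr h5 (stab_le_PS x hg) (cw fr K h)
    rw [lam_of_fix fr (mem_stab.1 hg), one_smul] at this
    rw [rho, ← this]
    group
  rw [← el_add fr h5]
  convert h1 using 1
  rw [mul_assoc, ← mul_assoc (el Q x (fr.j (rho fr g (cw fr K h)))), ← e]
  group

theorem cw_gr_add {a v v' : W} (ha : Q' a = 0) (hv : polB Q' a v = 0) (hv' : polB Q' a v' = 0) :
    cw fr K (gr fr a (v + v')) =
      cw fr K (gr fr a v) + rho fr (gr fr a v) (cw fr K (gr fr a v')) := by
  rw [← gr_add fr h7 ha hv hv', cw_mul fr K h7 hI hst (gr_mem_stab fr h7 ha hv) (gr_mem_stab fr h7 ha hv')]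

variable (hW : 5 ≤ Module.finrank F W)

include hW

/-- A lift is orthogonal to the point of its root element. -/
theorem cw_perp {a v : W} (ha0 : a ≠ 0) (ha : Q' a = 0) (hv : polB Q' a v = 0) :
    polB Q' (cw fr K (gr fr a v)) a = 0 := by
  obtain ⟨v', hv', hv'n⟩ : ∃ v', polB Q' a v' = 0 ∧ v' ∉ Submodule.span F {a, v} := by
    by_contra hcon
    push Not at hcon
    have h1 : (polB Q').orthogonal (F ∙ a) ≤ Submodule.span F {a, v} := fun z hz =>
      hcon z (mem_orth_singleton.1 hz)
    have h2 := Submodule.finrank_mono h1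
    have h3 := finrank_orth_singleton fr.nd' ha0
    have h4 : Module.finrank F (Submodule.span F ({a, v} : Set W)) ≤ 2 := by
      rw [← Matrix.range_cons_cons_empty a v ![]]
      exact (finrank_range_le_card (R := F) ![a, v]).trans (by simp)
    omega
  by_contra hne
  set w := cw fr K (gr fr a v)
  set w' := cw fr K (gr fr a v')
  have h1 := cw_gr_add fr K h7 hI hst ha hv hv'
  have h2 := cw_gr_add fr K h7 hI hst ha hv' hv
  rw [add_comm v' v, h1, rho_gr fr h7 ha hv, rho_gr fr h7 ha hv'] at h2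
  apply hv'n
  have e : polB Q' w a • v' = polB Q' w' a • v +
      ((polB Q' w v' + Q' v' * polB Q' w a) - (polB Q' w' v + Q' v * polB Q' w' a)) • a := by
    linear_combination (norm := module) -h2
  have : v' = (polB Q' w a)⁻¹ • (polB Q' w' a • v +
      ((polB Q' w v' + Q' v' * polB Q' w a) - (polB Q' w' v + Q' v * polB Q' w' a)) • a) := by
    rw [← e, smul_smul, inv_mul_cancel₀ hne, one_smul]
  rw [this]
  exact Submodule.smul_mem _ _ (add_mem (Submodule.smul_mem _ _ (Submodule.subset_span (by simp)))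
    (Submodule.smul_mem _ _ (Submodule.subset_span (by simp))))

theorem rho_cw {a v v' : W} (ha0 : a ≠ 0) (ha : Q' a = 0) (hv : polB Q' a v = 0)
    (hv' : polB Q' a v' = 0) :
    rho fr (gr fr a v) (cw fr K (gr fr a v')) =
      cw fr K (gr fr a v') - polB Q' (cw fr K (gr fr a v')) v • a := by
  rw [rho_gr fr h7 ha hv, cw_perp fr K h7 hI hst hW ha0 ha hv']
  simp

/-- The lifts at a point form a self-adjoint map. -/
theorem cw_self_adj {a v v' : W} (ha0 : a ≠ 0) (ha : Q' a = 0) (hv : polB Q' a v = 0)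
    (hv' : polB Q' a v' = 0) :
    polB Q' (cw fr K (gr fr a v')) v = polB Q' (cw fr K (gr fr a v)) v' := by
  have h1 := cw_gr_add fr K h7 hI hst ha hv hv'
  have h2 := cw_gr_add fr K h7 hI hst ha hv' hv
  rw [add_comm v' v, h1, rho_cw fr K h7 hI hst hW ha0 ha hv hv',
    rho_cw fr K h7 hI hst hW ha0 ha hv' hv] at h2
  refine smul_left_injective F ha0 ?_
  linear_combination (norm := module) -h2

/-- The lifts at a point are additive modulo the point. -/
theorem cw_additive {a v v' : W} (ha0 : a ≠ 0) (ha : Q' a = 0) (hv : polB Q' a v = 0)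
    (hv' : polB Q' a v' = 0) :
    cw fr K (gr fr a (v + v')) = cw fr K (gr fr a v) + cw fr K (gr fr a v') -
      polB Q' (cw fr K (gr fr a v')) v • a := by
  rw [cw_gr_add fr K h7 hI hst ha hv hv', rho_cw fr K h7 hI hst hW ha0 ha hv hv', add_sub_assoc]

theorem B_cw_add {a v v' z : W} (ha0 : a ≠ 0) (ha : Q' a = 0) (hv : polB Q' a v = 0)
    (hv' : polB Q' a v' = 0) (hz : polB Q' a z = 0) :
    polB Q' (cw fr K (gr fr a (v + v'))) z =
      polB Q' (cw fr K (gr fr a v)) z + polB Q' (cw fr K (gr fr a v')) z := by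
  rw [cw_additive fr K h7 hI hst hW ha0 ha hv hv']
  simp [hz]

theorem B_cw_smul (hF : Nat.card F ≤ 3) {a v z : W} (ha0 : a ≠ 0) (ha : Q' a = 0)
    (hv : polB Q' a v = 0) (hz : polB Q' a z = 0) (c : F) :
    polB Q' (cw fr K (gr fr a (c • v))) z = c * polB Q' (cw fr K (gr fr a v)) z := by
  let A : AddSubgroup F :=
    { carrier := {c | polB Q' (cw fr K (gr fr a (c • v))) z = c * polB Q' (cw fr K (gr fr a v)) z}
      zero_mem' := by
        show polB Q' (cw fr K (gr fr a ((0 : F) • v))) z = _
        rw [zero_smul, gr_zero fr h7 ha, cw_one fr K h7 hI hst]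
        simp
      add_mem' := fun {c d} hc hd => by
        show polB Q' (cw fr K (gr fr a ((c + d) • v))) z = _
        rw [add_smul, B_cw_add fr K h7 hI hst hW ha0 ha (by rw [map_smul, hv, smul_zero])
          (by rw [map_smul, hv, smul_zero]) hz, hc, hd]
        ring
      neg_mem' := fun {c} hc => by
        have h := B_cw_add fr K h7 hI hst hW ha0 ha (v := c • v) (v' := (-c) • v)
          (by rw [map_smul, hv, smul_zero]) (by rw [map_smul, hv, smul_zero]) hz
        rw [← add_smul, add_neg_cancel, zero_smul, gr_zero fr h7 ha, cw_one fr K h7 hI hst, hc] at h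
        simp only [map_zero, LinearMap.zero_apply] at h
        show polB Q' (cw fr K (gr fr a ((-c) • v))) z = _
        linear_combination -h }
  have h1 : (1 : F) ∈ A := by
    show polB Q' (cw fr K (gr fr a ((1 : F) • v))) z = _
    rw [one_smul, one_mul]
  have := smul_mem_small (F := F) (V := F) hF h1 c
  rwa [smul_eq_mul, mul_one] at this

theorem gr_swap {a b : W} (ha : Q' a = 0) (hb : Q' b = 0) (hab : polB Q' a b = 0) :
    gr fr b a = gr fr a (-b) := by
  rw [gr, gr, el_swap fr.nd h7 (by rw [fr.form, ha]) (by rw [fr.form, hb]) (by rw [fr.bform, hab]), map_neg]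

/-- A lift of a long root element is orthogonal to both ends. -/
theorem cw_perp_right (hF : Nat.card F ≤ 3) {a b : W} (ha0 : a ≠ 0) (hb0 : b ≠ 0) (ha : Q' a = 0)
    (hb : Q' b = 0) (hab : polB Q' a b = 0) : polB Q' (cw fr K (gr fr a b)) b = 0 := by
  have h1 := cw_perp fr K h7 hI hst hW hb0 hb (v := a) (by rw [polB_comm]; exact hab)
  rw [gr_swap fr K h7 hI hst hW ha hb hab,
    show (-b : W) = (-1 : F) • b by rw [neg_one_smul],
    B_cw_smul fr K h7 hI hst hW hF ha0 ha hab hab] at h1
  linear_combination -h1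

/-- The relation coming from the commutator of two root elements. -/
theorem commutator_rel (hF : Nat.card F ≤ 3) {a b b' e z : W} (ha0 : a ≠ 0) (hb0 : b ≠ 0)
    (ha : Q' a = 0) (hb : Q' b = 0) (hb' : Q' b' = 0) (hab : polB Q' a b = 0) (hab' : polB Q' a b' = 0)
    (hbb' : polB Q' b b' = 1) (hae : polB Q' a e = 0) (hbe : polB Q' b e = 0) (hb'e : polB Q' b' e = 0)
    (haz : polB Q' a z = 0) :
    polB Q' (cw fr K (gr fr a e)) z - Q' e * polB Q' (cw fr K (gr fr a b)) z =
      polB Q' (cw fr K (gr fr a b)) b' * polB Q' e z -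
        (polB Q' (cw fr K (gr fr a b')) e + Q' e * polB Q' (cw fr K (gr fr a b)) b') * polB Q' b z -
        polB Q' (cw fr K (gr fr b e)) a * polB Q' b' z -
        polB Q' (cw fr K (gr fr b e)) a * (polB Q' e z - Q' e * polB Q' b z) := by
  have hba : polB Q' b a = 0 := by rw [polB_comm]; exact hab
  set v3 := e + (-Q' e) • b with hv3
  have hav3 : polB Q' a v3 = 0 := by simp [hv3, hae, hab]
  set g := gr fr b e
  set h := gr fr a b'
  set c := gr fr a v3
  have hg := gr_mem_stab fr h7 hb hbe
  have hh := gr_mem_stab fr h7 ha hab'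
  have hc := gr_mem_stab fr h7 ha hav3
  have hcomm : g * h = c * (h * g) := by
    have e1 := comm_el fr.nd h7 (a := fr.j a) (b := fr.j b) (u := fr.j b') (v := fr.j e)
      (by rw [fr.form, ha]) (by rw [fr.form, hb]) (by rw [fr.bform, hab']) (by rw [fr.bform, hbe])
      (by rw [fr.bform, hab]) (by rw [fr.bform, hae])
    rw [fr.bform, fr.bform, fr.form, polB_comm b' b, hbb', hb'e, zero_add, mul_one, one_smul,
      show fr.j e - Q' e • fr.j b = fr.j v3 by
        rw [hv3, map_add, map_smul, neg_smul, sub_eq_add_neg]] at e1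
    change g * h * g⁻¹ * h⁻¹ = c at e1
    rw [← e1]
    group
  have h1 := congrArg (cw fr K) hcomm
  rw [cw_mul fr K h7 hI hst hg hh, cw_mul fr K h7 hI hst hc (mul_mem hh hg),
    cw_mul fr K h7 hI hst hh hg] at h1
  have hrho : ∀ p r, rho fr c (p + r) = rho fr c p + rho fr c r := fun p r => by
    simp [rho, map_add]
  rw [hrho] at h1
  have h2 := congrArg (fun w => polB Q' w z) h1
  simp only [map_add, LinearMap.add_apply] at h2
  have hm : polB Q' (rho fr h (cw fr K g)) a = polB Q' (cw fr K g) a := by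
    rw [B_rho fr h7 ha hab', polB_comm b' a, hab', polB_self, ha]
    ring
  rw [B_rho fr h7 hb hbe, B_rho fr h7 ha hav3, B_rho fr h7 ha hav3, B_rho fr h7 ha hab', hm, haz,
    cw_perp fr K h7 hI hst hW ha0 ha hab'] at h2
  have hL : polB Q' (cw fr K c) z =
      polB Q' (cw fr K (gr fr a e)) z - Q' e * polB Q' (cw fr K (gr fr a b)) z := by
    rw [B_cw_add fr K h7 hI hst hW ha0 ha hae (by rw [map_smul, hab, smul_zero]) haz,
      B_cw_smul fr K h7 hI hst hW hF ha0 ha hab haz]
    ring
  have hs : polB Q' (cw fr K h) b = polB Q' (cw fr K (gr fr a b)) b' :=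
    cw_self_adj fr K h7 hI hst hW ha0 ha hab hab'
  have hv3z : polB Q' v3 z = polB Q' e z - Q' e * polB Q' b z := by
    simp [hv3]; ring
  rw [hL, hs, hv3z] at h2
  linear_combination -h2

end basic

end H48.OrSmall
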