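import Cfsg.Agent.H48.OrSmall.Propagate

/-!
# The lifts come from one change of frame
-/

set_option autoImplicit false
set_option linter.unusedSectionVars false

namespace H48.OrSmall

open H43 H50.Or H48.OrIdx

universe u w w'

variable {F : Type u} [Field F] [Finite F] {V : Type w} [AddCommGroup V] [Module F V]
  [FiniteDimensional F V] {Q : QuadraticForm F V}
  {W : Type w'} [AddCommGroup W] [Module F W] [FiniteDimensional F W] {Q' : QuadraticForm F W}
  {x y : V} (fr : Frame Q x y Q') (K : Subgroup (Om Q))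

omit [FiniteDimensional F V] in
theorem mem_line_of_perp (hnd : (polB Q').Nondegenerate) {a w : W}
    (h : ∀ z, polB Q' a z = 0 → polB Q' w z = 0) : w ∈ F ∙ a := by
  rw [← LinearMap.BilinForm.orthogonal_orthogonal hnd (polB_isRefl Q') (F ∙ a)]
  intro z hz
  rw [polB_comm]
  exact h z (mem_orth_singleton.1 hz)

omit [FiniteDimensional F V] in
/-- The orthogonal space of a singular point is spanned by its singular vectors. -/
theorem span_singular_perp (hnd : (polB Q').Nondegenerate) (hW : 5 ≤ Module.finrank F W) {a : W}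
    (ha0 : a ≠ 0) (ha : Q' a = 0) {v : W} (hv : polB Q' a v = 0) :
    v ∈ Submodule.span F {z : W | polB Q' a z = 0 ∧ Q' z = 0} := by
  obtain ⟨a', hp⟩ := exists_hypPair hnd ha ha0
  obtain ⟨f⟩ := exists_frame hnd hp
  have hd := f.finrank_eq
  obtain ⟨z₀, hz0, hz⟩ := exists_singular (Q'.restrict ((polB Q').orthogonal (Submodule.span F {a, a'})))
    (by omega)
  have h1 := Submodule.mem_map_of_mem (f := f.j) (mem_span_all_singular f.nd' hz0 hz (f.P v))
  rw [Submodule.map_span, j_P_perp f hv] at h1
  have h2 : v - polB Q' v a' • a ∈ Submodule.span F {z : W | polB Q' a z = 0 ∧ Q' z = 0} := by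
    refine Submodule.span_mono ?_ h1
    rintro _ ⟨p, hp', rfl⟩
    exact ⟨(f.orth p).1, by rw [f.form]; exact hp'⟩
  have h3 : a ∈ Submodule.span F {z : W | polB Q' a z = 0 ∧ Q' z = 0} :=
    Submodule.subset_span ⟨by rw [polB_self, ha, mul_zero], ha⟩
  rw [← sub_add_cancel v (polB Q' v a' • a)]
  exact add_mem h2 (Submodule.smul_mem _ _ h3)

omit [FiniteDimensional F V] in
/-- The common orthogonal space of two opposite singular vectors is spanned by singular vectors. -/
theorem span_singular_pair (hnd : (polB Q').Nondegenerate) (hW : 5 ≤ Module.finrank F W) {a c : W}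
    (ha : Q' a = 0) (hc : Q' c = 0) (hac : polB Q' a c ≠ 0) {v : W} (hva : polB Q' a v = 0)
    (hvc : polB Q' c v = 0) :
    v ∈ Submodule.span F {z : W | polB Q' a z = 0 ∧ polB Q' c z = 0 ∧ Q' z = 0} := by
  have hp : HypPair Q' a ((polB Q' a c)⁻¹ • c) :=
    ⟨ha, by rw [qmap_smul, hc, mul_zero], by rw [map_smul, smul_eq_mul, inv_mul_cancel₀ hac]⟩
  obtain ⟨f⟩ := exists_frame hnd hp
  have hd := f.finrank_eq
  obtain ⟨z₀, hz0, hz⟩ := exists_singular
    (Q'.restrict ((polB Q').orthogonal (Submodule.span F {a, (polB Q' a c)⁻¹ • c}))) (by omega)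
  have h1 := Submodule.mem_map_of_mem (f := f.j) (mem_span_all_singular f.nd' hz0 hz (f.P v))
  rw [Submodule.map_span, j_P_perp f hva, map_smul, polB_comm v c, hvc, smul_zero, zero_smul,
    sub_zero] at h1
  refine Submodule.span_mono ?_ h1
  rintro _ ⟨p, hp', rfl⟩
  refine ⟨(f.orth p).1, ?_, by rw [f.form]; exact hp'⟩
  have := (f.orth p).2
  rw [map_smul, LinearMap.smul_apply, smul_eq_mul, mul_eq_zero] at this
  exact this.resolve_left (inv_ne_zero hac)

section basic

variable (h7 : 7 ≤ Module.finrank F V) (hI : Iw fr K = ⊥) (hst : stab Q x ≤ Lft fr K)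
  (hW : 5 ≤ Module.finrank F W) (hF : Nat.card F ≤ 3)

include h7 hI hst hW hF

/-- At every point the lifts are a scalar modulo the point. -/
theorem scalar_at (hplane : ∀ a b : W, a ≠ 0 → Q' a = 0 → Q' b = 0 → polB Q' a b = 0 → b ∉ F ∙ a →
      PlaneLift fr K a b) {a : W} (ha0 : a ≠ 0) (ha : Q' a = 0) :
    ∃ s : F, ∀ v, polB Q' a v = 0 → cw fr K (gr fr a v) - s • v ∈ F ∙ a := by
  classical
  have hnd := fr.nd'
  have eig : ∀ b, Q' b = 0 → polB Q' a b = 0 → b ∉ F ∙ a →
      ∃ s : F, cw fr K (gr fr a b) - s • b ∈ F ∙ a := by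
    intro b hb hab hba
    have hmem : cw fr K (gr fr a b) ∈ Submodule.span F {a, b} := by
      rw [← LinearMap.BilinForm.orthogonal_orthogonal hnd (polB_isRefl Q') (Submodule.span F {a, b})]
      intro z hz
      obtain ⟨h1, h2⟩ := mem_orth_pair.1 hz
      rw [polB_comm]
      exact hplane a b ha0 ha hb hab hba z h1 h2
    obtain ⟨p, s, hps⟩ := Submodule.mem_span_pair.1 hmem
    exact ⟨s, by rw [← hps, add_sub_cancel_right]; exact Submodule.smul_mem _ _ (Submodule.mem_span_singleton_self a)⟩
  choose σ hσ using eig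
  -- one scalar
  obtain ⟨b₀, hb₀U, hb₀0, hb₀⟩ : ∃ b₀, b₀ ∈ (polB Q').orthogonal (F ∙ a) ∧ b₀ ∉ F ∙ a ∧ Q' b₀ = 0 := by
    by_contra hcon
    push Not at hcon
    have hle : (polB Q').orthogonal (F ∙ a) ≤ F ∙ a := fun z hz => by
      refine Submodule.span_le.2 ?_ (span_singular_perp hnd hW ha0 ha (mem_orth_singleton.1 hz))
      rintro r ⟨hr1, hr2⟩
      by_contra hr
      exact hcon r (mem_orth_singleton.2 hr1) hr hr2
    have h1 := Submodule.finrank_mono hle
    have h2 := finrank_orth_singleton hnd ha0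
    rw [finrank_span_singleton ha0] at h1
    omega
  have hab₀ := mem_orth_singleton.1 hb₀U
  have hB : ∀ b hb hab hba z, polB Q' a z = 0 →
      polB Q' (cw fr K (gr fr a b)) z = σ b hb hab hba * polB Q' b z := by
    intro b hb hab hba z hz
    obtain ⟨r, hr⟩ := Submodule.mem_span_singleton.1 (hσ b hb hab hba)
    rw [eq_add_of_sub_eq hr.symm]
    simp [hz]
  have key : ∀ b (hb : Q' b = 0) (hab : polB Q' a b = 0) (hba : b ∉ F ∙ a),
      σ b hb hab hba = σ b₀ hb₀ hab₀ hb₀0 := by
    intro b hb hab hba
    by_cases hbb : polB Q' b b₀ = 0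
    swap
    · have h := cw_self_adj fr K h7 hI hst hW ha0 ha hab hab₀
      rw [hB b hb hab hba b₀ hab₀, hB b₀ hb₀ hab₀ hb₀0 b hab, polB_comm b₀ b] at h
      exact (mul_right_cancel₀ hbb h).symm
    -- orthogonal vectors
    by_cases hdep : b ∈ Submodule.span F {a, b₀}
    · obtain ⟨p, r, hpr⟩ := Submodule.mem_span_pair.1 hdep
      obtain ⟨z, hz, hzb⟩ := exists_orth_polB_eq hnd hb₀0 1
      have haz := hz a (Submodule.mem_span_singleton_self a)
      have hr : r ≠ 0 := fun e => hba (Submodule.mem_span_singleton.2 ⟨p, by rw [← hpr, e, zero_smul, add_zero]⟩)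
      have h := cw_self_adj fr K h7 hI hst hW ha0 ha (v := b) (v' := z) hab haz
      have h' := cw_self_adj fr K h7 hI hst hW ha0 ha (v := b₀) (v' := z) hab₀ haz
      rw [hB b hb hab hba z haz] at h
      rw [hB b₀ hb₀ hab₀ hb₀0 z haz, hzb, mul_one] at h'
      generalize σ b hb hab hba = sb at h ⊢
      rw [← hpr, map_add, map_smul, map_smul, map_add, LinearMap.add_apply, map_smul, map_smul,
        LinearMap.smul_apply, LinearMap.smul_apply, haz, hzb, h',
        cw_perp fr K h7 hI hst hW ha0 ha haz] at h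
      simp only [smul_eq_mul, mul_zero, zero_add, mul_one] at h
      exact mul_right_cancel₀ hr (by linear_combination -h)
    · have hsum : Q' (b + b₀) = 0 := by rw [qmap_add, hb, hb₀, hbb, add_zero, add_zero]
      have habs : polB Q' a (b + b₀) = 0 := by rw [map_add, hab, hab₀, add_zero]
      have hnmem : b + b₀ ∉ F ∙ a := fun e => hdep (by
        obtain ⟨p, hp⟩ := Submodule.mem_span_singleton.1 e
        exact Submodule.mem_span_pair.2 ⟨p, -1, by rw [hp, neg_one_smul]; abel⟩)
      set s₁ := σ b hb hab hba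
      set s₀ := σ b₀ hb₀ hab₀ hb₀0
      set s₂ := σ (b + b₀) hsum habs hnmem
      obtain ⟨z, hz, hzb⟩ := exists_orth_polB_eq hnd (show b₀ ∉ Submodule.span F {a, b} from fun e => by
        obtain ⟨p, r, hpr⟩ := Submodule.mem_span_pair.1 e
        rcases eq_or_ne r 0 with hr | hr
        · exact hb₀0 (Submodule.mem_span_singleton.2 ⟨p, by rw [← hpr, hr, zero_smul, add_zero]⟩)
        · exact hdep (Submodule.mem_span_pair.2 ⟨-(r⁻¹ * p), r⁻¹, by
            rw [← hpr, smul_add, smul_smul, smul_smul, inv_mul_cancel₀ hr, one_smul, neg_smul]; abel⟩)) 1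
      obtain ⟨z', hz', hzb'⟩ := exists_orth_polB_eq hnd (show b ∉ Submodule.span F {a, b₀} from hdep) 1
      have h1 := hB _ hsum habs hnmem z (hz a (Submodule.subset_span (by simp)))
      have h2 := hB _ hsum habs hnmem z' (hz' a (Submodule.subset_span (by simp)))
      rw [B_cw_add fr K h7 hI hst hW ha0 ha hab hab₀ (hz a (Submodule.subset_span (by simp))),
        hB b hb hab hba z (hz a (Submodule.subset_span (by simp))),
        hB b₀ hb₀ hab₀ hb₀0 z (hz a (Submodule.subset_span (by simp))), map_add, LinearMap.add_apply,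
        hzb, hz b (Submodule.subset_span (by simp))] at h1
      rw [B_cw_add fr K h7 hI hst hW ha0 ha hab hab₀ (hz' a (Submodule.subset_span (by simp))),
        hB b hb hab hba z' (hz' a (Submodule.subset_span (by simp))),
        hB b₀ hb₀ hab₀ hb₀0 z' (hz' a (Submodule.subset_span (by simp))), map_add, LinearMap.add_apply,
        hzb', hz' b₀ (Submodule.subset_span (by simp))] at h2
      linear_combination h2 - h1
  refine ⟨σ b₀ hb₀ hab₀ hb₀0, fun v hv => ?_⟩
  suffices h : ∀ u ∈ Submodule.span F {z : W | polB Q' a z = 0 ∧ Q' z = 0}, polB Q' a u = 0 ∧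
      ∀ z, polB Q' a z = 0 → polB Q' (cw fr K (gr fr a u) - σ b₀ hb₀ hab₀ hb₀0 • u) z = 0 from
    mem_line_of_perp hnd fun z hz => (h v (span_singular_perp hnd hW ha0 ha hv)).2 z hz
  intro u hu
  induction hu using Submodule.span_induction with
  | mem b hb =>
    refine ⟨hb.1, fun z hz => ?_⟩
    rw [map_sub, LinearMap.sub_apply, map_smul, LinearMap.smul_apply, smul_eq_mul]
    by_cases hba : b ∈ F ∙ a
    · obtain ⟨r, hr⟩ := Submodule.mem_span_singleton.1 hba
      rw [← hr, show r • a = 0 + r • a from (zero_add _).symm, gr_add_self fr h7 ha (map_zero _),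
        gr_zero fr h7 ha, cw_one fr K h7 hI hst]
      simp [hz]
    · rw [hB b hb.2 hb.1 hba z hz, key b hb.2 hb.1 hba, sub_self]
  | zero =>
    refine ⟨map_zero _, fun z hz => ?_⟩
    rw [gr_zero fr h7 ha, cw_one fr K h7 hI hst]
    simp
  | add p r _ _ hp hr =>
    refine ⟨by rw [map_add, hp.1, hr.1, add_zero], fun z hz => ?_⟩
    rw [map_sub, LinearMap.sub_apply, B_cw_add fr K h7 hI hst hW ha0 ha hp.1 hr.1 hz]
    have e1 := hp.2 z hz
    have e2 := hr.2 z hz
    rw [map_sub, LinearMap.sub_apply] at e1 e2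
    simp only [map_smul, map_add, LinearMap.add_apply, LinearMap.smul_apply, smul_eq_mul] at e1 e2 ⊢
    linear_combination e1 + e2
  | smul c p _ hp =>
    refine ⟨by rw [map_smul, hp.1, smul_zero], fun z hz => ?_⟩
    rw [map_sub, LinearMap.sub_apply, B_cw_smul fr K h7 hI hst hW hF ha0 ha hp.1 hz]
    have e1 := hp.2 z hz
    rw [map_sub, LinearMap.sub_apply] at e1
    simp only [map_smul, LinearMap.smul_apply, smul_eq_mul] at e1 ⊢
    linear_combination c * e1

/-- A frame in which every root element of the Levi factor lies in the subgroup. -/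
theorem exists_good_frame (hplane : ∀ a b : W, a ≠ 0 → Q' a = 0 → Q' b = 0 → polB Q' a b = 0 → b ∉ F ∙ a →
      PlaneLift fr K a b) :
    ∃ (y' : V) (fr' : Frame Q x y' Q'), Iw fr' K = ⊥ ∧ stab Q x ≤ Lft fr' K ∧
      ∀ a v : W, Q' a = 0 → polB Q' a v = 0 → el Q (fr'.j a) (fr'.j v) ∈ K := by
  classical
  have h5 : 5 ≤ Module.finrank F V := by omega
  have hnd := fr.nd'
  -- the scalar and the functional at every point
  have hrep : ∀ a : W, a ≠ 0 → Q' a = 0 → ∃ (φ : F) (τ : W →ₗ[F] F),
      ∀ v, polB Q' a v = 0 → cw fr K (gr fr a v) = φ • v + (-(τ v) - φ * Q' v) • a := by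
    intro a ha0 ha
    obtain ⟨φ, hφ⟩ := scalar_at fr K h7 hI hst hW hF hplane ha0 ha
    have hT : ∀ v, polB Q' a v = 0 → ∃ r : F, cw fr K (gr fr a v) = φ • v + r • a := fun v hv => by
      obtain ⟨r, hr⟩ := Submodule.mem_span_singleton.1 (hφ v hv)
      exact ⟨r, by rw [hr, add_sub_cancel]⟩
    let U := (polB Q').orthogonal (F ∙ a)
    choose r hr using fun v : U => hT v.1 (mem_orth_singleton.1 v.2)
    let ρ : U → F := fun v => -(r v) - φ * Q' v.1
    have hadd : ∀ v v', ρ (v + v') = ρ v + ρ v' := by
      intro v v'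
      have h1 := cw_additive fr K h7 hI hst hW ha0 ha (mem_orth_singleton.1 v.2) (mem_orth_singleton.1 v'.2)
      have e : cw fr K (gr fr a (v.1 + v'.1)) = φ • (v.1 + v'.1) + r (v + v') • a := hr (v + v')
      rw [e, hr v, hr v', map_add, LinearMap.add_apply, map_smul, map_smul, LinearMap.smul_apply,
        LinearMap.smul_apply, mem_orth_singleton.1 v.2] at h1
      have h2 : r (v + v') = r v + r v' - φ * polB Q' v'.1 v.1 := by
        refine smul_left_injective F ha0 ?_
        simp only [smul_eq_mul, mul_zero, add_zero] at h1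
        linear_combination (norm := module) h1
      show -(r (v + v')) - φ * Q' (v.1 + v'.1) = _
      rw [h2, qmap_add, polB_comm v'.1 v.1]
      show _ = (-(r v) - φ * Q' v.1) + (-(r v') - φ * Q' v'.1)
      ring
    let ρl : U →+ F := AddMonoidHom.mk' ρ hadd
    let ρlin : U →ₗ[F] F :=
      { toFun := ρ
        map_add' := hadd
        map_smul' := fun c v => by
          let A : AddSubgroup F :=
            { carrier := {c | ρ (c • v) = c * ρ v}
              zero_mem' := by
                show ρ ((0 : F) • v) = 0 * ρ v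
                rw [zero_smul, zero_mul]; exact ρl.map_zero
              add_mem' := fun {c d} hc hd => by
                show ρ ((c + d) • v) = _
                rw [add_smul, hadd, hc, hd, add_mul]
              neg_mem' := fun {c} hc => by
                show ρ ((-c) • v) = _
                rw [neg_smul, show ρ (-(c • v)) = -ρ (c • v) from ρl.map_neg _, hc, neg_mul] }
          have h1 : (1 : F) ∈ A := by show ρ ((1 : F) • v) = 1 * ρ v; rw [one_smul, one_mul]
          have h := smul_mem_small (F := F) (V := F) hF h1 c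
          rw [smul_eq_mul, mul_one] at h
          exact h }
    obtain ⟨τ, hτ⟩ := LinearMap.exists_extend ρlin
    refine ⟨φ, τ, fun v hv => ?_⟩
    have := LinearMap.congr_fun hτ ⟨v, mem_orth_singleton.2 hv⟩
    rw [LinearMap.comp_apply, Submodule.subtype_apply] at this
    rw [show τ v = ρ ⟨v, mem_orth_singleton.2 hv⟩ from this, hr ⟨v, mem_orth_singleton.2 hv⟩]
    show _ = _ + (-(-(r _) - φ * Q' v) - φ * Q' v) • a
    congr 2
    ring
  choose! φ τ hrep using hrep
  have hself : ∀ a, a ≠ 0 → Q' a = 0 → τ a a = φ a := by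
    intro a ha0 ha
    have h := hrep a ha0 ha a (by rw [polB_self, ha, mul_zero])
    rw [show gr fr a a = gr fr a (0 + (1 : F) • a) by rw [zero_add, one_smul],
      gr_add_self fr h7 ha (map_zero _), gr_zero fr h7 ha, cw_one fr K h7 hI hst, ha, mul_zero, sub_zero,
      ← add_smul, eq_comm, smul_eq_zero] at h
    linear_combination -(h.resolve_right ha0)
  have hτφ : ∀ a c, a ≠ 0 → Q' a = 0 → c ≠ 0 → Q' c = 0 → polB Q' a c = 0 → τ a c = φ c := by
    intro a c ha0 ha hc0 hc hac
    by_cases hca : c ∈ F ∙ a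
    · obtain ⟨t, ht⟩ := Submodule.mem_span_singleton.1 hca
      have ht0 : t ≠ 0 := fun e => hc0 (by rw [← ht, e, zero_smul])
      rw [← ht, map_smul, hself a ha0 ha, smul_eq_mul]
      -- proportional points
      obtain ⟨v, hv, hva⟩ : ∃ v, polB Q' a v = 0 ∧ v ∉ F ∙ a := by
        by_contra hcon
        push Not at hcon
        have h1 : (polB Q').orthogonal (F ∙ a) ≤ F ∙ a := fun z hz => hcon z (mem_orth_singleton.1 hz)
        have h2 := Submodule.finrank_mono h1
        have h3 := finrank_orth_singleton hnd ha0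
        rw [finrank_span_singleton ha0] at h2
        omega
      have hta : Q' (t • a) = 0 := by rw [ht, hc]
      have e1 := hrep (t • a) (by rw [ht]; exact hc0) hta v (by rw [map_smul, LinearMap.smul_apply, hv, smul_zero])
      have e2 := hrep a ha0 ha (t • v) (by rw [map_smul, hv, smul_zero])
      have hgr : gr fr (t • a) v = gr fr a (t • v) := by
        rw [gr, gr, map_smul, map_smul]
        exact el_smul_left fr.nd h7 (by rw [fr.form, ha]) (by rw [fr.bform, hv]) ht0
      rw [hgr, e2] at e1
      obtain ⟨z, hz, hzv⟩ := exists_orth_polB_eq hnd hva 1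
      have h := congrArg (fun w => polB Q' w z) e1
      simp [hz a (Submodule.mem_span_singleton_self a), hzv] at h
      rw [mul_comm]
      exact h
    · have hac' : a ∉ F ∙ c := fun h => by
        obtain ⟨r, hr⟩ := Submodule.mem_span_singleton.1 h
        have hr0 : r ≠ 0 := fun e => ha0 (by rw [← hr, e, zero_smul])
        exact hca (Submodule.mem_span_singleton.2 ⟨r⁻¹, by rw [← hr, smul_smul, inv_mul_cancel₀ hr0, one_smul]⟩)
      have hca0 : polB Q' c a = 0 := by rw [polB_comm]; exact hac
      have e1 := hrep a ha0 ha c hac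
      have e2 := hrep c hc0 hc a hca0
      have e3 := hrep a ha0 ha (-c) (by rw [map_neg, hac, neg_zero])
      rw [gr_swap fr K h7 hI hst hW ha hc hac, e3] at e2
      obtain ⟨z, hz, hza⟩ := exists_orth_polB_eq hnd hac' 1
      have h := congrArg (fun w => polB Q' w z) e2
      simp [hz c (Submodule.mem_span_singleton_self c), hza, qmap_neg, hc, ha] at h
      exact h
  -- one functional
  obtain ⟨a, ha0, ha⟩ := exists_singular Q' (by omega)
  obtain ⟨a', hp⟩ := exists_hypPair hnd ha ha0
  let Λ : W →ₗ[F] F := τ a - (τ a a' - φ a') • polB Q' a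
  have hΛa : ∀ v, polB Q' a v = 0 → Λ v = τ a v := fun v hv => by simp [Λ, hv]
  have hΛa' : Λ a' = φ a' := by simp [Λ, hp.pair]
  have hglobal : ∀ c, c ≠ 0 → Q' c = 0 → Λ c = φ c := by
    intro c hc0 hc
    by_cases hac : polB Q' a c = 0
    · rw [hΛa c hac, hτφ a c ha0 ha hc0 hc hac]
    have hsing : ∀ e, e ≠ 0 → Q' e = 0 → polB Q' a e = 0 → Λ e = φ e := fun e he0 he hae => by
      rw [hΛa e hae, hτφ a e ha0 ha he0 he hae]
    have ha'0 := hp.symm.left_ne_zero
    have ha' := hp.right
    -- agreement on the orthogonal space of the opposite point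
    have hΛ' : ∀ v, polB Q' a' v = 0 → Λ v = τ a' v := by
      intro v hv
      set v₀ := v - polB Q' a v • a'
      have h1 : polB Q' a v₀ = 0 := by simp [v₀, hp.pair]
      have h2 : polB Q' a' v₀ = 0 := by simp [v₀, hv, polB_self, ha']
      suffices h : Λ v₀ = τ a' v₀ by
        have e : v = v₀ + polB Q' a v • a' := (sub_add_cancel _ _).symm
        rw [e, map_add, map_add, map_smul, map_smul, h, hΛa', hself a' ha'0 ha']
      have hmem := span_singular_pair hnd hW ha ha' (by rw [hp.pair]; exact one_ne_zero) h1 h2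
      clear h1 h2
      clear_value v₀
      induction hmem using Submodule.span_induction with
      | mem e he =>
        rcases eq_or_ne e 0 with rfl | he0
        · simp
        rw [hsing e he0 he.2.2 he.1, hτφ a' e ha'0 ha' he0 he.2.2 he.2.1]
      | zero => simp
      | add p r _ _ hp hr => rw [map_add, map_add, hp, hr]
      | smul t p _ hp => rw [map_smul, map_smul, hp]
    by_cases hca' : polB Q' a' c = 0
    · rw [hΛ' c hca', hτφ a' c ha'0 ha' hc0 hc hca']
    obtain ⟨e, he, hea, hec, hea'⟩ : ∃ e, Q' e = 0 ∧ polB Q' a e = 0 ∧ polB Q' c e = 0 ∧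
        polB Q' a' e ≠ 0 := by
      by_contra hcon
      push Not at hcon
      have hmem : a' ∈ Submodule.span F {a, c} := by
        rw [← LinearMap.BilinForm.orthogonal_orthogonal hnd (polB_isRefl Q') (Submodule.span F {a, c})]
        intro z hz
        obtain ⟨hz1, hz2⟩ := mem_orth_pair.1 hz
        show polB Q' z a' = 0
        rw [polB_comm]
        have hm := span_singular_pair hnd hW ha hc hac hz1 hz2
        clear hz hz1 hz2
        induction hm using Submodule.span_induction with
        | mem e he => exact hcon e he.2.2 he.1 he.2.1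
        | zero => simp
        | add p r _ _ hp hr => rw [map_add, hp, hr, add_zero]
        | smul t p _ hp => rw [map_smul, hp, smul_zero]
      obtain ⟨p, r, hpr⟩ := Submodule.mem_span_pair.1 hmem
      rcases eq_or_ne r 0 with hr | hr
      · have h := hp.pair
        rw [← hpr, hr, zero_smul, add_zero, map_smul, polB_self, ha, mul_zero, smul_zero] at h
        exact zero_ne_one h
      · have h := ha'
        rw [← hpr, qmap_add, qmap_smul, qmap_smul, ha, hc, map_smul, map_smul, LinearMap.smul_apply] at h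
        simp only [mul_zero, zero_add, smul_eq_mul, mul_eq_zero, hr, hac, or_false, false_or] at h
        apply hca'
        rw [← hpr, h, zero_smul, zero_add, map_smul, LinearMap.smul_apply, polB_self, hc, mul_zero,
          smul_zero]
    have he0 : e ≠ 0 := fun h => hea' (by rw [h, map_zero])
    rw [← hτφ e c he0 he hc0 hc (by rw [polB_comm]; exact hec)]
    -- agreement on the orthogonal space of `e`
    set t := polB Q' a' c / polB Q' a' a
    have ha'a : polB Q' a' a = 1 := hp.symm.pair
    set c₀ := c - t • a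
    have h1 : polB Q' a' c₀ = 0 := by simp [c₀, t, ha'a]
    have h2 : polB Q' e c₀ = 0 := by
      simp [c₀, polB_comm e c, hec, polB_comm e a, hea]
    have hc₀ : Λ c₀ = τ e c₀ := by
      have hmem := span_singular_pair hnd hW ha' he hea' h1 h2
      clear h1 h2
      clear_value c₀
      induction hmem using Submodule.span_induction with
      | mem z hz =>
        rcases eq_or_ne z 0 with rfl | hz0
        · simp
        rw [hΛ' z hz.1, hτφ a' z ha'0 ha' hz0 hz.2.2 hz.1, hτφ e z he0 he hz0 hz.2.2 hz.2.1]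
      | zero => simp
      | add p r _ _ hp hr => rw [map_add, map_add, hp, hr]
      | smul s p _ hp => rw [map_smul, map_smul, hp]
    have hΛa0 : Λ a = τ e a := by
      rw [hsing a ha0 ha (by rw [polB_self, ha, mul_zero]),
        hτφ e a he0 he ha0 ha (by rw [polB_comm]; exact hea)]
    rw [show c = c₀ + t • a from (sub_add_cancel _ _).symm, map_add, map_add, map_smul, map_smul, hc₀, hΛa0]
  -- the change of frame
  obtain ⟨u, hu⟩ : ∃ u, ∀ v, polB Q' u v = -Λ v :=
    ⟨(LinearMap.BilinForm.toDual (polB Q') hnd).symm (-Λ), fun v => by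
      rw [LinearMap.BilinForm.apply_toDual_symm_apply]; rfl⟩
  obtain ⟨fr', hI', hL', -, hgr⟩ := exists_shift fr K h7 u
  refine ⟨_, fr', by rw [hI', hI], by rw [hL']; exact hst, fun b v hb hbv => ?_⟩
  by_cases hb0 : b = 0
  · subst hb0
    have : el Q (fr'.j (0 : W)) (fr'.j v) = 1 := Subtype.ext (orth_ext fun z => by
      rw [coe_el fr.nd h5 (by rw [map_zero, QuadraticMap.map_zero]) (by simp),
        eichler_apply (by rw [map_zero, QuadraticMap.map_zero]) (by simp)]
      simp [orth_one_apply])
    rw [this]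
    exact K.one_mem
  have hagree : Λ v = τ b v := by
    have hmem := span_singular_perp hnd hW hb0 hb hbv
    clear hbv
    induction hmem using Submodule.span_induction with
    | mem z hz =>
      rcases eq_or_ne z 0 with rfl | hz0
      · simp
      rw [hglobal z hz0 hz.2, hτφ b z hb0 hb hz0 hz.2 hz.1]
    | zero => simp
    | add p r _ _ hp hr => rw [map_add, map_add, hp, hr]
    | smul s p _ hp => rw [map_smul, map_smul, hp]
  show gr fr' b v ∈ K
  rw [hgr b v hb hbv]
  have e : u - rho fr (gr fr b v) u = cw fr K (gr fr b v) := by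
    rw [hrep b hb0 hb v hbv, rho_gr fr h7 hb hbv, hu, hu, hglobal b hb0 hb, hagree]
    module
  rw [e]
  exact cw_spec fr K h7 hst (gr_mem_stab fr h7 hb hbv)

end basic

end H48.OrSmall
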