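import Cfsg.Agent.H48.OrSmall.Level
import Cfsg.Agent.H48.OrIdx.MaxCount

/-!
# The seven-dimensional case over the field with three elements
-/

set_option autoImplicit false
set_option linter.unusedSectionVars false

namespace H48.OrSmall

open H43 H50.Or H48.OrIdx

universe u w w'

variable {F : Type u} [Field F] [Finite F] {V : Type w} [AddCommGroup V] [Module F V]
  [FiniteDimensional F V] {Q : QuadraticForm F V}
  {W : Type w'} [AddCommGroup W] [Module F W] [FiniteDimensional F W] {Q' : QuadraticForm F W}
  {x y : V} (fr : Frame Q x y Q') (K : Subgroup (Om Q))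

theorem two_ne_zero_of_card_three (hF : Nat.card F = 3) : (2 : F) ≠ 0 := fun h => by
  haveI := Fintype.ofFinite F
  have := FiniteField.even_card_of_char_two (F := F)
    (CharP.ringChar_of_prime_eq_zero Nat.prime_two (by exact_mod_cast h))
  rw [← Nat.card_eq_fintype_card, hF] at this
  omega

/-- The main inequality, counting only the members of the value of `j`. -/
theorem index_ge_sharp (hF : Nat.card F = 3) (h5 : 5 ≤ Module.finrank F V) {ψ : AddChar F ℂ}
    (hψ : ψ.IsPrimitive) {j : W} (hj : j ∈ ann ψ (polB Q') (Iw fr K)) :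
    Nat.card (clsOrbit fr j) * (Lft fr K).relIndex (clsStab fr j) * Nat.card (ann ψ (polB Q') (Iw fr K)) ≤
      K.index * Nat.card {a : W // a ∈ ann ψ (polB Q') (Iw fr K) ∧ Q' a = Q' j} := by
  classical
  haveI : Finite V := Module.finite_of_finite F
  haveI := finite_orthGroup (Q := Q)
  haveI : Finite W := Module.finite_of_finite F
  set J := ann ψ (polB Q') (Iw fr K) with hJ
  set S := clsStab fr j with hS
  have hdual := card_ann_mul hψ fr.nd' (Iw fr K)
  rw [(Iw fr K).card_eq_card_quotient_mul_card_addSubgroup] at hdual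
  have hquot : Nat.card (W ⧸ Iw fr K) = Nat.card J := (Nat.eq_of_mul_eq_mul_right Nat.card_pos hdual).symm
  have h1 := card_lift_mul_le fr K h5 (S := S) (fun g hg => hg.1)
    (fun a => ⟨el_mem_PS fr h5 a, act_el fr h5 a j⟩)
  rw [hquot] at h1
  set m := Nat.card {a : W // a ∈ J ∧ Q' a = Q' j}
  have h2 : Nat.card (K ⊓ PS Q x : Subgroup (Om Q)) ≤ m * Nat.card (K ⊓ S : Subgroup (Om Q)) := by
    rw [H48.card_eq_image_mul_stab (K ⊓ PS Q x) (K ⊓ S) (fun g => act fr g j)
      (inf_le_inf_left _ fun g hg => hg.1) (fun g hg h hh => by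
        rw [Subgroup.mem_inf, hS, mem_clsStab, act_mul fr (inv_mem hg.2) hh.2]
        refine ⟨fun e => ⟨mul_mem (inv_mem hg.1) hh.1, mul_mem (inv_mem hg.2) hh.2, ?_⟩,
          fun ⟨_, _, e⟩ => ?_⟩
        · rw [← e, ← act_mul fr (inv_mem hg.2) hg.2, inv_mul_cancel, act_one]
        · apply act_injective fr (inv_mem hg.2)
          rw [e, ← act_mul fr (inv_mem hg.2) hg.2, inv_mul_cancel, act_one])]
    refine Nat.mul_le_mul_right _ ?_
    refine Nat.card_mono (Set.toFinite {a : W | a ∈ J ∧ Q' a = Q' j}) ?_
    rintro _ ⟨g, hg, rfl⟩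
    refine ⟨act_ann fr K h5 (mem_Lft_of_mem fr K h5 hg.1 hg.2) hj, ?_⟩
    rw [act_qmap fr hg.2]
    rcases eq_of_card_three hF (lam Q x y g) with h | h | h
    · exact absurd h (lam_ne_zero fr hg.2)
    · rw [h]; simp
    · rw [h]; simp
  have hrel : (Lft fr K).relIndex S * Nat.card (Lft fr K ⊓ S : Subgroup (Om Q)) = Nat.card S := by
    rw [← ((Lft fr K).subgroupOf S).index_mul_card, Subgroup.relIndex]
    congr 1
    exact Nat.card_congr
      { toFun := fun g => ⟨⟨g.1, g.2.2⟩, g.2.1⟩
        invFun := fun g => ⟨g.1.1, g.2, g.1.2⟩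
        left_inv := fun g => rfl
        right_inv := fun g => rfl }
  have hrelK : Nat.card (PS Q x) ≤ K.index * Nat.card (K ⊓ PS Q x : Subgroup (Om Q)) := by
    have e : Nat.card (K.subgroupOf (PS Q x)) = Nat.card (K ⊓ PS Q x : Subgroup (Om Q)) :=
      Nat.card_congr
        { toFun := fun g => ⟨g.1.1, g.2, g.1.2⟩
          invFun := fun g => ⟨⟨g.1, g.2.2⟩, g.2.1⟩
          left_inv := fun g => rfl
          right_inv := fun g => rfl }
    rw [← (K.subgroupOf (PS Q x)).index_mul_card, e, ← Subgroup.relIndex_top_right K]
    refine Nat.mul_le_mul_right _ (Subgroup.relIndex_le_of_le_right le_top ?_)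
    rw [Subgroup.relIndex_top_right]
    exact Subgroup.index_ne_zero_of_finite
  refine Nat.le_of_mul_le_mul_right ?_ (Nat.card_pos (α := (K ⊓ S : Subgroup (Om Q))))
  calc Nat.card (clsOrbit fr j) * (Lft fr K).relIndex S * Nat.card J * Nat.card (K ⊓ S : Subgroup (Om Q))
      = Nat.card (clsOrbit fr j) * ((Lft fr K).relIndex S *
          (Nat.card (K ⊓ S : Subgroup (Om Q)) * Nat.card J)) := by ring
    _ ≤ Nat.card (clsOrbit fr j) * Nat.card S := by rw [← hrel]; gcongr
    _ = Nat.card (PS Q x) := (card_PS_eq fr j).symm
    _ ≤ K.index * (m * Nat.card (K ⊓ S : Subgroup (Om Q))) := hrelK.trans (Nat.mul_le_mul_left _ h2)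
    _ = _ := by ring

/-- A translation by a non-singular vector meets the zeros at most twice in three. -/
theorem three_mul_zeros_le (hF : Nat.card F = 3) (A : AddSubgroup W) {v : W} (hv : v ∈ A) (hq : Q' v ≠ 0) :
    3 * Nat.card {a : A // Q' a.1 = 0} ≤ 2 * Nat.card A := by
  classical
  haveI : Finite W := Module.finite_of_finite F
  haveI := Fintype.ofFinite A
  let f : A → ℕ := fun a => if Q' a.1 = 0 then 1 else 0
  have hsum : Nat.card {a : A // Q' a.1 = 0} = ∑ a : A, f a := by
    rw [Nat.card_eq_fintype_card, Fintype.card_subtype, Finset.card_filter]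
  let v' : A := ⟨v, hv⟩
  have e1 : ∑ a : A, f (a + v') = ∑ a : A, f a := Equiv.sum_comp (Equiv.addRight v') f
  have e2 : ∑ a : A, f (a + -v') = ∑ a : A, f a := Equiv.sum_comp (Equiv.addRight (-v')) f
  have hpt : ∀ a : A, f a + f (a + v') + f (a + -v') ≤ 2 := by
    intro a
    by_cases h0 : Q' a.1 = 0
    · by_cases h1 : Q' (a.1 + v) = 0
      · by_cases h2 : Q' (a.1 + -v) = 0
        · exfalso
          rw [qmap_add, h0] at h1 h2
          rw [qmap_neg, map_neg] at h2
          exact hq (mul_left_cancel₀ (two_ne_zero_of_card_three hF)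
            (by linear_combination h1 + h2 : (2 : F) * Q' v = 2 * 0))
        · simp [f, v', h0, h1, h2]
      · simp only [f, v', AddSubgroup.coe_add, h1, if_false, add_zero]
        split_ifs <;> simp
    · simp only [f, v', h0, if_false, zero_add]
      split_ifs <;> simp
  have := Finset.sum_le_sum (s := Finset.univ) fun a _ => hpt a
  rw [Finset.sum_add_distrib, Finset.sum_add_distrib, e1, e2, Finset.sum_const, Finset.card_univ,
    smul_eq_mul, ← Nat.card_eq_fintype_card] at this
  omega

/-- The class stabiliser is transitive on the singular vectors of the complement. -/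
theorem exists_move (hF : Nat.card F = 3) (h7 : 7 ≤ Module.finrank F V) (hW : 5 ≤ Module.finrank F W)
    {j r r' : W} (hjq : Q' j ≠ 0) (hr : Q' r = 0) (hr' : Q' r' = 0) (hjr : polB Q' j r = 0)
    (hjr' : polB Q' j r' = 0) (hind : r' ∉ F ∙ r) (hr0 : r ≠ 0) :
    ∃ g ∈ clsStab fr j, act fr g r = r' := by
  classical
  have h2 := two_ne_zero_of_card_three hF
  have hnd := fr.nd'
  have hjj : polB Q' j j ≠ 0 := by
    rw [polB_self]; exact mul_ne_zero h2 hjq
  set β := polB Q' r r' with hβdef
  have hrj : polB Q' r j = 0 := by rw [polB_comm]; exact hjr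
  have hr'j : polB Q' r' j = 0 := by rw [polB_comm]; exact hjr'
  have hnot : r ∉ Submodule.span F {j, r' - r} := by
    intro h
    obtain ⟨p, s, hps⟩ := Submodule.mem_span_pair.1 h
    have h1 := congrArg (polB Q' j) hps
    simp [hjr, hjr', hjj] at h1
    rw [h1, zero_smul, zero_add, smul_sub, sub_eq_iff_eq_add] at hps
    rcases eq_or_ne s 0 with rfl | hs
    · rw [zero_smul, zero_smul, add_zero] at hps
      exact hr0 hps.symm
    · apply hind
      refine Submodule.mem_span_singleton.2 ⟨s⁻¹ * (1 + s), ?_⟩
      rw [mul_smul, add_smul, one_smul, ← hps, smul_smul, inv_mul_cancel₀ hs, one_smul]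
  obtain ⟨a, hja, hra, hr'a, ha⟩ :
      ∃ a, polB Q' j a = 0 ∧ polB Q' r a = 1 ∧ polB Q' r' a = 1 ∧ Q' a = 0 := by
    by_cases hb : β = 0
    · obtain ⟨y₀, hy₀, hry⟩ := exists_orth_polB_eq hnd hnot 1
      have hjy := hy₀ j (Submodule.subset_span (by simp))
      have hdy := hy₀ (r' - r) (Submodule.subset_span (by simp))
      rw [map_sub, LinearMap.sub_apply, hry, sub_eq_zero] at hdy
      refine ⟨y₀ + (-Q' y₀) • r, by simp [hjy, hjr], by simp [hry, polB_self, hr],
        by rw [hβdef] at hb; simp [hdy, polB_comm r' r, hb], ?_⟩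
      rw [qmap_add, qmap_smul, hr, map_smul, polB_comm y₀ r, hry, smul_eq_mul]
      ring
    · set y₀ := β⁻¹ • (r + r') with hy₀
      obtain ⟨w', hw', hwq⟩ : ∃ w' ∈ (polB Q').orthogonal (Submodule.span F {j, r, r'}),
          Q' w' = -Q' y₀ := by
        set U := (polB Q').orthogonal (Submodule.span F {j, r, r'}) with hU
        have hyq : Q' y₀ ≠ 0 := by
          rw [hy₀, qmap_smul, qmap_add, hr, hr', zero_add, zero_add]
          exact mul_ne_zero (mul_ne_zero (inv_ne_zero hb) (inv_ne_zero hb)) hb
        have hUd : 2 ≤ Module.finrank F U := by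
          have h3 : Module.finrank F U + Module.finrank F (Submodule.span F ({j, r, r'} : Set W)) =
              Module.finrank F W := finrank_orth_add hnd _
          have h4 : Module.finrank F (Submodule.span F ({j, r, r'} : Set W)) ≤ 3 :=
            le_trans (finrank_span_le_card _) (by
              rw [Set.toFinset_card, ← Nat.card_eq_fintype_card, Nat.card_coe_set_eq]
              exact (Set.ncard_insert_le _ _).trans (Nat.succ_le_succ
                ((Set.ncard_insert_le _ _).trans (by rw [Set.ncard_singleton]))))
          omega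
        have hnU : (polB (Q'.restrict U)).Nondegenerate := by
          refine ⟨?_, ?_⟩
          all_goals
            intro u hu
            have hu' : u.1 ∈ (polB Q').orthogonal U := fun z hz => by
              have := hu ⟨z, hz⟩
              first
                | exact this
                | (rw [polB_comm]; exact this)
            rw [show (polB Q').orthogonal U = Submodule.span F {j, r, r'} from
              LinearMap.BilinForm.orthogonal_orthogonal hnd (polB_isRefl Q') _] at hu'
            obtain ⟨p, z, hz, hpz⟩ := Submodule.mem_span_insert.1 hu'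
            obtain ⟨s, t, hst⟩ := Submodule.mem_span_pair.1 hz
            have huj := u.2 j (Submodule.subset_span (by simp))
            have hur := u.2 r (Submodule.subset_span (by simp))
            have hur' := u.2 r' (Submodule.subset_span (by simp))
            rw [hpz, ← hst] at huj hur hur'
            simp [polB_self, hjr, hjr', hrj, hr'j, hr, hr', polB_comm r' r, ← hβdef, hjq, h2, hb] at huj hur hur'
            apply Subtype.ext
            show u.1 = 0
            rw [hpz, ← hst]
            simp [huj, hur, hur']
        obtain ⟨w', hw'⟩ := exists_qmap_eq hnU hUd (-Q' y₀) (neg_ne_zero.2 hyq)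
        exact ⟨w'.1, w'.2, hw'⟩
      have hjw := hw' j (Submodule.subset_span (by simp))
      have hrw := hw' r (Submodule.subset_span (by simp))
      have hr'w := hw' r' (Submodule.subset_span (by simp))
      refine ⟨y₀ + w', by simp [hy₀, hjr, hjr', hjw], ?_, ?_, ?_⟩
      · simp [hy₀, polB_self, hr, ← hβdef, hrw, hb]
      · simp [hy₀, polB_self, hr', polB_comm r' r, ← hβdef, hr'w, hb]
      · rw [qmap_add, hwq]
        simp [hy₀, hrw, hr'w]
  set v := r' - r with hvdef
  have hav : polB Q' a v = 0 := by
    rw [hvdef, map_sub, polB_comm a r', polB_comm a r, hr'a, hra, sub_self]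
  have hjv : polB Q' j v = 0 := by rw [hvdef, map_sub, hjr', hjr, sub_self]
  have hg := el_mem_clsStab fr h7 ha hav hja hjv
  refine ⟨_, hg, ?_⟩
  have hfix : (el Q (fr.j a) (fr.j v)).1.1 x = x := mem_stab.1 (el_mem_stab fr h7 ha hav)
  rw [act_of_fix fr hfix, apply_el fr.nd h7 (by rw [fr.form, ha]) (by rw [fr.bform, hav]), fr.bform,
    fr.bform, fr.form, hra, one_smul, mul_one]
  simp only [map_add, map_sub, map_smul, fr.P_j]
  have hqv : Q' v = -β := by
    rw [hvdef, sub_eq_add_neg, qmap_add, qmap_neg, hr, hr', map_neg, polB_comm r' r]; ring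
  have hrv : polB Q' r v = β := by rw [hvdef, map_sub, polB_self, hr, mul_zero, sub_zero]
  rw [hqv, hrv, neg_smul, hvdef]
  abel

/-- The alternatives in dimension seven. -/
theorem seven_cases (hF : Nat.card F = 3) (hV : Module.finrank F V = 7) {ψ : AddChar F ℂ}
    (hψ : ψ.IsPrimitive) {j : W} (hj : j ∈ ann ψ (polB Q') (Iw fr K)) (hjq : Q' j ≠ 0) :
    351 ≤ K.index ∨ (∀ u, polB Q' j u = 0 → u ∈ Iw fr K) ∨
      ∀ a v : W, Q' a = 0 → polB Q' a v = 0 → polB Q' j a = 0 → polB Q' j v = 0 →
        el Q (fr.j a) (fr.j v) ∈ Lft fr K := by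
  classical
  have h7 : 7 ≤ Module.finrank F V := by omega
  have h5 : 5 ≤ Module.finrank F V := by omega
  have h2 := two_ne_zero_of_card_three hF
  have hnd := fr.nd'
  haveI : Finite W := Module.finite_of_finite F
  haveI : Finite V := Module.finite_of_finite F
  haveI := finite_orthGroup (Q := Q)
  have hdW : Module.finrank F W = 5 := by
    have := fr.finrank_eq
    omega
  set k := (Lft fr K).relIndex (clsStab fr j) with hk
  by_cases hk3 : k < 3
  · refine Or.inr (Or.inr (roots_of_relIndex_lt fr K h7 hjq ?_))
    unfold kIdx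
    rw [if_neg (by omega), hF]
    exact hk3
  by_cases hbig : 351 ≤ K.index
  · exact Or.inl hbig
  refine Or.inr (Or.inl ?_)
  have hineq := index_ge_sharp fr K hF h5 hψ hj
  set J := ann ψ (polB Q') (Iw fr K) with hJdef
  have horb : 72 ≤ Nat.card (clsOrbit fr j) := by
    refine le_trans ?_ (level_le_clsOrbit fr h7 hjq)
    have := level_ge_odd 2 hnd (by omega) (Q' j)
    rw [hF] at this
    omega
  have hjj : polB Q' j j ≠ 0 := by rw [polB_self]; exact mul_ne_zero h2 hjq
  let J0 : AddSubgroup W :=
    { carrier := {a | a ∈ J ∧ polB Q' j a = 0}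
      zero_mem' := ⟨J.zero_mem, map_zero _⟩
      add_mem' := fun {a b} ha hb => ⟨J.add_mem ha.1 hb.1, by rw [map_add, ha.2, hb.2, add_zero]⟩
      neg_mem' := fun {a} ha => ⟨J.neg_mem ha.1, by rw [map_neg, ha.2, neg_zero]⟩ }
  have hJ0 : ∀ a, a ∈ J0 ↔ a ∈ J ∧ polB Q' j a = 0 := fun a => Iff.rfl
  have hjJ : ∀ c : F, c • j ∈ J := fun c => smul_mem_small (by omega) hj c
  have hsplit : Nat.card J = 3 * Nat.card J0 := by
    let e : F × J0 ≃ J :=
      { toFun := fun p => ⟨p.1 • j + p.2.1, J.add_mem (hjJ _) p.2.2.1⟩
        invFun := fun u => (polB Q' j u.1 / polB Q' j j,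
          ⟨u.1 - (polB Q' j u.1 / polB Q' j j) • j, J.sub_mem u.2 (hjJ _), by
            rw [map_sub, map_smul, smul_eq_mul, div_mul_cancel₀ _ hjj, sub_self]⟩)
        left_inv := fun p => by
          have hc : polB Q' j (p.1 • j + p.2.1) / polB Q' j j = p.1 := by
            rw [map_add, map_smul, p.2.2.2, smul_eq_mul, add_zero, mul_div_cancel_right₀ _ hjj]
          refine Prod.ext hc (Subtype.ext ?_)
          show p.1 • j + p.2.1 - (polB Q' j (p.1 • j + p.2.1) / polB Q' j j) • j = p.2.1
          rw [hc, add_sub_cancel_left]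
        right_inv := fun u => Subtype.ext (by simp) }
    rw [← Nat.card_congr e, Nat.card_prod, hF]
  set m := Nat.card {a : W // a ∈ J ∧ Q' a = Q' j}
  set z := Nat.card {a : J0 // Q' a.1 = 0}
  set d := Nat.card {a : J0 // Q' a.1 = Q' j}
  have hm : m ≤ 2 * z + d := by
    have hdec : ∀ a : {a : W // a ∈ J ∧ Q' a = Q' j},
        a.1 = (polB Q' j a.1 / polB Q' j j) • j + (a.1 - (polB Q' j a.1 / polB Q' j j) • j) := fun a => by
      abel
    have hmem : ∀ a : {a : W // a ∈ J ∧ Q' a = Q' j},
        a.1 - (polB Q' j a.1 / polB Q' j j) • j ∈ J0 := fun a => ⟨J.sub_mem a.2.1 (hjJ _), by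
      rw [map_sub, map_smul, smul_eq_mul, div_mul_cancel₀ _ hjj, sub_self]⟩
    let f : {a : W // a ∈ J ∧ Q' a = Q' j} →
        ({c : F // c ≠ 0} × {a : J0 // Q' a.1 = 0}) ⊕ {a : J0 // Q' a.1 = Q' j} := fun a =>
      if h : polB Q' j a.1 / polB Q' j j = 0 then
        .inr ⟨⟨a.1, a.2.1, (div_eq_zero_iff.1 h).resolve_right hjj⟩, a.2.2⟩
      else .inl (⟨_, h⟩, ⟨⟨_, hmem a⟩, by
        have h1 := a.2.2
        rw [hdec a, qmap_add, qmap_smul, map_smul, LinearMap.smul_apply, (hmem a).2, smul_zero,
          add_zero] at h1
        have hc : (polB Q' j a.1 / polB Q' j j) * (polB Q' j a.1 / polB Q' j j) = 1 := by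
          rcases eq_of_card_three hF (polB Q' j a.1 / polB Q' j j) with e | e | e
          · exact absurd e h
          · rw [e, one_mul]
          · rw [e, neg_mul_neg, one_mul]
        rw [hc, one_mul] at h1
        simpa using h1⟩)
    have hf : Function.Injective f := by
      intro a b hab
      simp only [f] at hab
      split_ifs at hab with h h'
      · exact Subtype.ext (congrArg (fun p => p.1.1) (Sum.inr_injective hab))
      · have := Sum.inl_injective hab
        have e1 : polB Q' j a.1 / polB Q' j j = polB Q' j b.1 / polB Q' j j :=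
          congrArg (fun p => p.1.1) this
        have e2 : a.1 - (polB Q' j a.1 / polB Q' j j) • j = b.1 - (polB Q' j b.1 / polB Q' j j) • j :=
          congrArg (fun p => p.2.1.1) this
        apply Subtype.ext
        rw [hdec a, hdec b, e2, e1]
    refine (Nat.card_le_card_of_injective f hf).trans (le_of_eq ?_)
    rw [Nat.card_sum, Nat.card_prod]
    congr 2
    haveI := Fintype.ofFinite F
    rw [Nat.card_eq_fintype_card, Fintype.card_subtype_compl, Fintype.card_subtype_eq,
      ← Nat.card_eq_fintype_card, hF]
  have hzd : z + d ≤ Nat.card J0 := by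
    let g : {a : J0 // Q' a.1 = 0} ⊕ {a : J0 // Q' a.1 = Q' j} → J0 := Sum.elim (·.1) (·.1)
    have hg : Function.Injective g := by
      rintro (a | a) (b | b) h
      · exact congrArg Sum.inl (Subtype.ext h)
      · have h' : a.1 = b.1 := h
        exact absurd (by rw [← b.2, ← h', a.2] : Q' j = 0) hjq
      · have h' : a.1 = b.1 := h
        exact absurd (by rw [← a.2, h', b.2] : Q' j = 0) hjq
      · exact congrArg Sum.inr (Subtype.ext h)
    have := Nat.card_le_card_of_injective g hg
    rwa [Nat.card_sum] at this
  have hmpos : 0 < m := by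
    haveI : Nonempty {a : W // a ∈ J ∧ Q' a = Q' j} := ⟨⟨j, hj, rfl⟩⟩
    exact Nat.card_pos
  have hjpos : 0 < Nat.card J0 := Nat.card_pos
  -- four or more cosets, or three with many non-singular vectors
  by_cases hts : ∀ a ∈ J0, Q' a = 0
  · by_cases hz : ∀ a ∈ J0, a = 0
    · have hI : J ≤ (F ∙ j).toAddSubgroup := fun u hu => by
        have h1 := hz (u - (polB Q' j u / polB Q' j j) • j) ⟨J.sub_mem hu (hjJ _), by
          rw [map_sub, map_smul, smul_eq_mul, div_mul_cancel₀ _ hjj, sub_self]⟩
        exact Submodule.mem_span_singleton.2 ⟨_, (sub_eq_zero.1 h1).symm⟩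
      intro u hu
      rw [← ann_ann hψ hnd (fun a b => polB_comm a b) (Iw fr K)]
      intro i hi
      obtain ⟨c, rfl⟩ := Submodule.mem_span_singleton.1 (hI hi)
      rw [map_smul, LinearMap.smul_apply, hu, smul_zero, AddChar.map_zero_eq_one]
    · push Not at hz
      obtain ⟨r, hr, hr0⟩ := hz
      exfalso
      have hk4 : 4 ≤ k := by
        by_contra hk4
        set U := (polB Q').orthogonal (F ∙ j) with hUdef
        set S := clsStab fr j
        set X0 := {a : W | a ∈ J0 ∧ a ≠ 0}
        set Ω := {a : W | polB Q' j a = 0 ∧ Q' a = 0 ∧ a ≠ 0}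
        have hX0 : X0.ncard + 1 = Nat.card J0 := by
          have : X0 = (J0 : Set W) \ {0} := by ext a; simp [X0]
          rw [this, Set.ncard_sdiff_singleton_of_mem J0.zero_mem, ← Nat.card_coe_set_eq]
          show Nat.card J0 - 1 + 1 = _
          omega
        have horbS : Ω.ncard ≤ ((fun g => act fr g r) '' (S : Set (Om Q))).ncard + 2 := by
          refine le_trans (Set.ncard_le_ncard (t := ((fun g => act fr g r) '' (S : Set (Om Q))) ∪ {r, -r}) ?_
            (Set.toFinite _)) ((Set.ncard_union_le _ _).trans (Nat.add_le_add_left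
              ((Set.ncard_insert_le _ _).trans (by rw [Set.ncard_singleton])) _))
          rintro r' ⟨h1, h3, h4⟩
          by_cases hind : r' ∈ F ∙ r
          · refine Or.inr ?_
            obtain ⟨c, hc⟩ := Submodule.mem_span_singleton.1 hind
            rcases eq_of_card_three hF c with e | e | e <;> rw [e] at hc
            · exact absurd (by rw [← hc, zero_smul]) h4
            · exact Or.inl (by rw [← hc, one_smul])
            · exact Or.inr (by rw [Set.mem_singleton_iff, ← hc, neg_one_smul])
          · obtain ⟨g, hg, hgr⟩ := exists_move fr hF h7 (by omega) hjq (hts r hr) h3 hr.2 h1 hind hr0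
            exact Or.inl ⟨g, hg, hgr⟩
        -- orbits under the lifted part
        have key : ((fun g => act fr g r) '' (S : Set (Om Q))).ncard ≤ k * X0.ncard := by
          let T : Subgroup (Om Q) :=
            { carrier := {g | g ∈ S ∧ act fr g r = r}
              one_mem' := ⟨one_mem _, act_one fr r⟩
              mul_mem' := fun {a b} ha hb => ⟨mul_mem ha.1 hb.1, by
                rw [act_mul fr ha.1.1 hb.1.1, hb.2, ha.2]⟩
              inv_mem' := fun {a} ha => ⟨inv_mem ha.1, by
                conv_lhs => rw [← ha.2]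
                rw [← act_mul fr (inv_mem ha.1.1) ha.1.1, inv_mul_cancel, act_one]⟩ }
          have cnt : ∀ H : Subgroup (Om Q), H ≤ S →
              Nat.card H = Nat.card ((fun g => act fr g r) '' (H : Set (Om Q))) *
                Nat.card (H ⊓ T : Subgroup (Om Q)) := fun H hH =>
            H48.card_eq_image_mul_stab H (H ⊓ T) (fun g => act fr g r) inf_le_left fun g hg h hh => by
              rw [Subgroup.mem_inf]
              refine ⟨fun e => ⟨mul_mem (inv_mem hg) hh, mul_mem (inv_mem (hH hg)) (hH hh), ?_⟩,
                fun ⟨_, _, e⟩ => ?_⟩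
              · rw [act_mul fr (inv_mem (hH hg).1) (hH hh).1, ← e,
                  ← act_mul fr (inv_mem (hH hg).1) (hH hg).1, inv_mul_cancel, act_one]
              · rw [act_mul fr (inv_mem (hH hg).1) (hH hh).1] at e
                apply act_injective fr (inv_mem (hH hg).1)
                rw [e, ← act_mul fr (inv_mem (hH hg).1) (hH hg).1, inv_mul_cancel, act_one]
          have hS1 := cnt S le_rfl
          have hM1 := cnt (Lft fr K ⊓ S) inf_le_right
          have hT : Nat.card (Lft fr K ⊓ S ⊓ T : Subgroup (Om Q)) ≤ Nat.card (S ⊓ T : Subgroup (Om Q)) :=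
            Subgroup.card_le_of_le (inf_le_inf_right _ inf_le_right)
          have hrel : k * Nat.card (Lft fr K ⊓ S : Subgroup (Om Q)) = Nat.card S := by
            rw [hk, ← ((Lft fr K).subgroupOf S).index_mul_card, Subgroup.relIndex]
            congr 1
            exact Nat.card_congr
              { toFun := fun g => ⟨⟨g.1, g.2.2⟩, g.2.1⟩
                invFun := fun g => ⟨g.1.1, g.2, g.1.2⟩
                left_inv := fun g => rfl
                right_inv := fun g => rfl }
          have hMorb : Nat.card ((fun g => act fr g r) '' ((Lft fr K ⊓ S : Subgroup (Om Q)) : Set (Om Q))) ≤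
              X0.ncard := by
            rw [← Nat.card_coe_set_eq]
            refine Nat.card_mono (Set.toFinite X0) ?_
            rintro _ ⟨g, ⟨hg, hgS⟩, rfl⟩
            refine ⟨⟨act_ann fr K h5 hg hr.1, ?_⟩, fun e => hr0 (act_injective fr hgS.1 (by
              rw [show act fr g r = 0 from e, act, map_zero, map_zero, map_zero, smul_zero]))⟩
            have hl : (lam Q x y g)⁻¹ * (lam Q x y g)⁻¹ = 1 := by
              rcases eq_of_card_three hF (lam Q x y g) with e | e | e
              · exact absurd e (lam_ne_zero fr hgS.1)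
              · rw [e]; simp
              · rw [e]; simp
            have q1 := act_qmap fr hgS.1 (j + r)
            rw [show act fr g (j + r) = act fr g j + act fr g r by simp [act, smul_add],
              hgS.2, qmap_add, qmap_add, act_qmap fr hgS.1 r, hl, hr.2, hts r hr] at q1
            simpa using q1
          rw [← Nat.card_coe_set_eq ((fun g => act fr g r) '' (S : Set (Om Q)))]
          refine Nat.le_of_mul_le_mul_right ?_ (Nat.card_pos (α := (S ⊓ T : Subgroup (Om Q))))
          rw [← hS1, ← hrel, hM1, mul_assoc k X0.ncard]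
          exact Nat.mul_le_mul_left _ (Nat.mul_le_mul hMorb hT)
        have hk3' : k = 3 := by omega
        rw [hk3'] at key
        -- the totally singular part inside the four dimensional complement
        set M : Submodule F W :=
          { J0.toAddSubmonoid with
            smul_mem' := fun c a ha => smul_mem_small (by omega) (A := J0) ha c }
        have hMc : Nat.card M = Nat.card J0 := rfl
        have hMd : Nat.card J0 = 3 ^ Module.finrank F M := by
          rw [← hMc, Module.natCard_eq_pow_finrank (K := F) (V := M), hF]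
        obtain ⟨a0, b0, hab⟩ : ∃ a0 b0 : W, Nonempty (Frame Q' a0 b0
            (Q'.restrict ((polB Q').orthogonal (Submodule.span F {a0, b0})))) :=
          exists_any_frame hnd (by omega)
        have hUnd : (polB (Q'.restrict U)).Nondegenerate := by
          refine ⟨?_, ?_⟩
          all_goals
            intro u hu
            have hu' : u.1 ∈ (polB Q').orthogonal U := fun w hw => by
              have := hu ⟨w, hw⟩
              first
                | exact this
                | (rw [polB_comm]; exact this)
            rw [show (polB Q').orthogonal U = F ∙ j from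
              LinearMap.BilinForm.orthogonal_orthogonal hnd (polB_isRefl Q') _] at hu'
            obtain ⟨c, hc⟩ := Submodule.mem_span_singleton.1 hu'
            have hju := mem_orth_singleton.1 u.2
            rw [← hc, map_smul, smul_eq_mul, mul_eq_zero] at hju
            apply Subtype.ext
            show u.1 = 0
            rw [← hc, hju.resolve_right hjj, zero_smul]
        have hUd : Module.finrank F U = 4 := by
          have : Module.finrank F U + 1 = Module.finrank F W :=
            finrank_orth_singleton hnd (show j ≠ 0 from fun h => hjq (by rw [h, QuadraticMap.map_zero]))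
          omega
        set MU : Submodule F U := M.comap U.subtype
        have hMle : M ≤ U := fun a ha => mem_orth_singleton.2 ha.2
        have hMUd : Module.finrank F MU = Module.finrank F M :=
          (Submodule.comapSubtypeEquivOfLe hMle).finrank_eq
        have hMU : ∀ a ∈ MU, Q'.restrict U a = 0 := fun a ha => hts a.1 ha
        have hdle := two_mul_finrank_singular_le hUnd MU hMU
        have hΩ : level (Q'.restrict U) 0 ≤ Ω.ncard + 1 := by
          have e : Ω.ncard + 1 = (insert 0 Ω : Set W).ncard :=
            (Set.ncard_insert_of_notMem (by simp [Ω]) (Set.toFinite _)).symm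
          rw [e, ← Nat.card_coe_set_eq]
          refine Nat.card_le_card_of_injective (fun u : {u : U // Q'.restrict U u = 0} =>
            ⟨u.1.1, ?_⟩) fun a b h => Subtype.ext (Subtype.ext (congrArg Subtype.val h : _))
          by_cases h0 : (u.1.1 : W) = 0
          · exact Or.inl h0
          · exact Or.inr ⟨mem_orth_singleton.1 u.1.2, u.2, h0⟩
        have hd1 : 1 ≤ Module.finrank F M := by
          by_contra h
          have h0 : Module.finrank F M = 0 := by omega
          rw [Submodule.finrank_eq_zero] at h0
          have : r ∈ M := hr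
          rw [h0, Submodule.mem_bot] at this
          exact hr0 this
        rcases (show Module.finrank F M = 1 ∨ Module.finrank F M = 2 by omega) with hd | hd
        · rw [hd] at hMd
          obtain ⟨a1, b1, ⟨fr1⟩⟩ := exists_any_frame hUnd (by omega)
          have := fr1.finrank_eq
          have e := level_rec fr1 0
          rw [show Module.finrank F _ = 2 by omega, hF] at e
          have : 0 < level ((Q'.restrict U).restrict ((polB (Q'.restrict U)).orthogonal
              (Submodule.span F {a1, b1}))) 0 := by
            haveI : Finite U := Module.finite_of_finite F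
            haveI : Nonempty {v : (polB (Q'.restrict U)).orthogonal (Submodule.span F {a1, b1}) //
              (Q'.restrict U).restrict _ v = 0} := ⟨⟨0, QuadraticMap.map_zero _⟩⟩
            exact Nat.card_pos
          omega
        · have e := level_plus hUnd (k := 2) (by norm_num) (by omega) hMU (by omega)
          rw [hF] at e
          rw [hd] at hMd
          omega
      have hm' : m ≤ 2 * Nat.card J0 := by
        have hd0 : d = 0 := by
          haveI : IsEmpty {a : J0 // Q' a.1 = Q' j} := ⟨fun a => hjq (by rw [← a.2]; exact hts _ a.1.2)⟩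
          exact Nat.card_of_isEmpty
        omega
      have : 72 * 4 * (3 * Nat.card J0) ≤ K.index * m := by
        refine le_trans ?_ hineq
        rw [hsplit]
        gcongr
      have : 72 * 4 * (3 * Nat.card J0) ≤ K.index * (2 * Nat.card J0) :=
        this.trans (Nat.mul_le_mul_left _ hm')
      have : 432 ≤ K.index := by
        refine Nat.le_of_mul_le_mul_right (c := 2 * Nat.card J0) ?_ (by omega)
        calc 432 * (2 * Nat.card J0) = 72 * 4 * (3 * Nat.card J0) := by ring
          _ ≤ _ := this
      omega
  · exfalso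
    push Not at hts
    obtain ⟨v, hv, hqv⟩ := hts
    have h3z := three_mul_zeros_le hF J0 hv hqv
    have hm5 : 3 * m ≤ 5 * Nat.card J0 := by
      change 3 * z ≤ _ at h3z
      omega
    have : 72 * 3 * (3 * Nat.card J0) ≤ K.index * m := by
      refine le_trans ?_ hineq
      rw [hsplit]
      gcongr
      omega
    have h1 : 72 * 3 * (3 * Nat.card J0) * 3 ≤ K.index * (5 * Nat.card J0) := by
      calc 72 * 3 * (3 * Nat.card J0) * 3 ≤ K.index * m * 3 := Nat.mul_le_mul_right _ this
        _ = K.index * (3 * m) := by ring
        _ ≤ _ := Nat.mul_le_mul_left _ hm5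
    have : 1944 ≤ K.index * 5 := by
      refine Nat.le_of_mul_le_mul_right (c := Nat.card J0) ?_ hjpos
      calc 1944 * Nat.card J0 = 72 * 3 * (3 * Nat.card J0) * 3 := by ring
        _ ≤ _ := h1
        _ = _ := by ring
    omega

end H48.OrSmall
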