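import Cfsg.Agent.H48.OrSmall.CaseB
import Cfsg.Agent.H48.OrSmall.Seven
import Cfsg.Agent.H48.OrIdx.Main

/-!
# The minimal index over the fields with two and three elements
-/

set_option autoImplicit false
set_option linter.unusedSectionVars false

namespace H48.OrSmall

open H43 H50.Or H48.OrIdx

universe u w w'

variable {F : Type u} [Field F] [Finite F] {V : Type w} [AddCommGroup V] [Module F V]
  [FiniteDimensional F V] {Q : QuadraticForm F V} {K : Subgroup (Om Q)}

/-- All images totally singular: the orbit of a maximal subspace. -/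
theorem caseT_small (hQ : (polB Q).Nondegenerate) (h7 : 7 ≤ Module.finrank F V) (hA : AllSing K) {x : V}
    (hx0 : x ≠ 0) (hx : Q x = 0) (hnf : ¬ FullAt K x) :
    ∃ m, Module.finrank F V = 2 * m ∧ (∃ X : Submodule F V, (∀ p ∈ X, Q p = 0) ∧ Module.finrank F X = m) ∧
      (Nat.card F ^ (m - 2) + 1) * (Nat.card F ^ (m - 3) + 1) * Nat.card F ^ (m - 1) ≤ K.index := by
  classical
  have h5 : 5 ≤ Module.finrank F V := by omega
  haveI : Finite V := Module.finite_of_finite F
  haveI := finite_orthGroup (Q := Q)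
  obtain ⟨X, hxX, hX, hdX, hiff⟩ := point_space hQ h7 hA hx0 hx hnf
  obtain ⟨m, hm⟩ : ∃ m, Module.finrank F X = m := ⟨_, rfl⟩
  have hdV : Module.finrank F V = 2 * m := by omega
  refine ⟨m, hdV, ⟨X, hX, hm⟩, ?_⟩
  obtain ⟨y, ⟨fr⟩⟩ := exists_sing_frame hQ h7 hx0 hx
  have hMd : Module.finrank F (X.comap fr.j) = m - 1 := by
    have := finrank_comap fr hxX hX
    omega
  have hdW := fr.finrank_eq
  have hO := subOrbit_ge fr.nd' (k := m - 1) (by omega) (by omega)
    (M := X.comap fr.j) (fun a ha => by rw [← fr.form]; exact hX _ ha) hMd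
  rw [show m - 1 - 1 = m - 2 by omega, show m - 1 - 2 = m - 3 by omega] at hO
  have hle := Lft_le_SX fr hxX hX hiff h5
  have h3 := card_lift fr hxX hX hiff h5 (stab_le_PS x) le_rfl hdV hm
  rw [inf_eq_left.2 (hle.trans inf_le_right)] at h3
  have h6 := subOrbit_mul_le fr hxX hX (stab_le_PS x)
  have h8 := card_le_index_mul (K := K) (PS Q x)
  refine le_trans (Nat.mul_le_mul_right _ hO) ?_
  refine Nat.le_of_mul_le_mul_right ?_ (Nat.card_pos (α := (K ⊓ PS Q x : Subgroup (Om Q))))
  calc Nat.card (subOrbit (Q.restrict ((polB Q).orthogonal (Submodule.span F {x, y}))) (X.comap fr.j)) *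
        Nat.card F ^ (m - 1) * Nat.card (K ⊓ PS Q x : Subgroup (Om Q))
      = Nat.card (subOrbit (Q.restrict ((polB Q).orthogonal (Submodule.span F {x, y}))) (X.comap fr.j)) *
          (Nat.card (K ⊓ PS Q x : Subgroup (Om Q)) * Nat.card F ^ (m - 1)) := by ring
    _ ≤ _ * Nat.card (SX Q X ⊓ PS Q x : Subgroup (Om Q)) :=
        Nat.mul_le_mul_left _ (h3.trans (Subgroup.card_le_of_le hle))
    _ ≤ _ := h6.trans h8

/-- The root elements available at a class, according to the field. -/
def RootsAt {W : Type w'} [AddCommGroup W] [Module F W] {Q' : QuadraticForm F W} {x y : V}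
    (fr : Frame Q x y Q') (K : Subgroup (Om Q)) (j : W) : Prop :=
  (Nat.card F = 3 ∧ ∀ a v : W, Q' a = 0 → polB Q' a v = 0 → polB Q' j a = 0 → polB Q' j v = 0 →
      el Q (fr.j a) (fr.j v) ∈ Lft fr K) ∨
    (Nat.card F = 2 ∧ ∀ a b : W, Q' a = 0 → Q' b = 0 → polB Q' a b = 0 → polB Q' j a = 0 →
      polB Q' j b = 0 → a ≠ 0 → b ∉ F ∙ a → el Q (fr.j a) (fr.j (j + b)) ∈ Lft fr K)

/-- The bound for the fields with two and three elements. -/
theorem bound_small (hQ : (polB Q).Nondegenerate) (h7 : 7 ≤ Module.finrank F V)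
    (hF : Nat.card F ≤ 3) (h8 : Nat.card F = 2 → 8 ≤ Module.finrank F V) {T : ℕ}
    (h351 : Nat.card F = 3 → Module.finrank F V = 7 → T ≤ 351)
    (horb : ∀ U : Submodule F V, (polB (Q.restrict U)).Nondegenerate →
      Module.finrank F U + 2 = Module.finrank F V → ∀ c : F, c ≠ 0 → T ≤ 5 * level (Q.restrict U) c)
    (hns : ∀ z : V, Q z ≠ 0 → T * Nat.card {c : F // c * c = 1} ≤ level Q (Q z))
    (hpt : (Nat.card F - 1) * T ≤ level Q 0 - 1)
    (hmax : ∀ m, Module.finrank F V = 2 * m →
      (∃ X : Submodule F V, (∀ p ∈ X, Q p = 0) ∧ Module.finrank F X = m) →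
      T ≤ (Nat.card F ^ (m - 2) + 1) * (Nat.card F ^ (m - 3) + 1) * Nat.card F ^ (m - 1))
    (hK : K ≠ ⊤) : T ≤ K.index := by
  classical
  by_contra hlt
  have h5 : 5 ≤ Module.finrank F V := by omega
  haveI : Finite V := Module.finite_of_finite F
  obtain ⟨ψ, hψ⟩ := exists_primitive (F := F)
  have hq2 := two_le_q (F := F)
  have alt : ∀ (c y : V) (fr : Frame Q c y (Q.restrict ((polB Q).orthogonal (Submodule.span F {c, y}))))
      (j : _), j ∈ ann ψ (polB (Q.restrict _)) (Iw fr K) → Q.restrict _ j ≠ 0 →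
      (∀ u, polB (Q.restrict _) j u = 0 → u ∈ Iw fr K) ∨
        ((∀ i ∈ Iw fr K, i ∈ F ∙ j) ∧ RootsAt fr K j) := by
    intro c y fr j hj hjq
    have hd := fr.finrank_eq
    haveI := Module.finite_of_finite F (M := ↥((polB Q).orthogonal (Submodule.span F {c, y})))
    have hbig : ¬ 5 ≤ (Lft fr K).relIndex (clsStab fr j) := by
      intro hk
      apply hlt
      refine le_trans (le_trans ?_ (Nat.mul_le_mul_left _ hk))
        (index_ge fr K h5 hψ hj fun e => hjq (by rw [e, QuadraticMap.map_zero]))
      refine le_trans ?_ (Nat.mul_le_mul_right 5 (level_le_clsOrbit fr h7 hjq))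
      rw [mul_comm]
      exact horb _ fr.nd' fr.finrank_eq _ hjq
    rcases (show Nat.card F = 2 ∨ Nat.card F = 3 by omega) with h | h
    · have := h8 h
      have hr := roots_two fr (two_eq_zero_of_card_two h) h7 h K hjq (by omega)
      rcases invariant_two fr K h h7 (by omega) hjq hr with h' | h'
      · exact Or.inl h'
      · exact Or.inr ⟨h', Or.inr ⟨h, hr⟩⟩
    · by_cases hN : Module.finrank F V = 7
      · rcases seven_cases fr K h hN hψ hj hjq with h' | h' | hr
        · exact absurd ((h351 h hN).trans h') hlt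
        · exact Or.inl h'
        · rcases invariant_cases fr K h7 hjq hr with h' | h'
          · exact Or.inl h'
          · exact Or.inr ⟨h', Or.inl ⟨h, hr⟩⟩
      · have hr := roots_odd fr (two_ne_zero_of_card_three h) h7 (by omega) K hjq (by omega)
        rcases invariant_cases fr K h7 hjq hr with h' | h'
        · exact Or.inl h'
        · exact Or.inr ⟨h', Or.inl ⟨h, hr⟩⟩
  have hloc : LocalAlt K ψ False := fun c y fr j hj hjq => by
    rcases alt c y fr j hj hjq with h | h
    · exact Or.inr (Or.inl h)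
    · exact Or.inr (Or.inr h.1)
  have hpoint : ∀ {p : V}, p ≠ 0 → Q p = 0 → (∀ g ∈ K, g.1.1 p ∈ F ∙ p) → False := fun hp0 hp h =>
    hlt (Nat.le_of_mul_le_mul_left (hpt.trans (bound_of_point hQ h7 hp0 hp h)) (show 0 < Nat.card F - 1 by omega))
  have hline : ∀ (c y : V) (fr : Frame Q c y (Q.restrict ((polB Q).orthogonal (Submodule.span F {c, y}))))
      (j : _), j ∈ ann ψ (polB (Q.restrict _)) (Iw fr K) → Q.restrict _ j ≠ 0 →
      (∀ i ∈ Iw fr K, i ∈ F ∙ j) ∧ RootsAt fr K j := by
    intro c y fr j hj hjq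
    rcases alt c y fr j hj hjq with h | h
    · exfalso
      have hne : Iw fr K ≠ ⊤ := fun e => hjq (by
        have h0 : j = 0 := fr.nd'.2 j fun v =>
          perp_of_all (v := v) hψ hj fun t => by rw [e]; trivial
        rw [h0, QuadraticMap.map_zero])
      rcases caseA' h7 fr hψ hloc hjq h hne with h' | ⟨z, hz, hzK⟩
      · exact h'
      · haveI : Nonempty {c : F // c * c = 1} := ⟨⟨1, one_mul 1⟩⟩
        exact hlt (Nat.le_of_mul_le_mul_right ((hns z hz).trans (index_of_stab_nonsing hQ h5 hz hzK))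
          (Nat.card_pos (α := {c : F // c * c = 1})))
    · exact h
  by_cases hns' : ∃ (x y : V) (fr : Frame Q x y (Q.restrict ((polB Q).orthogonal (Submodule.span F {x, y}))))
      (j : _), j ∈ ann ψ (polB (Q.restrict _)) (Iw fr K) ∧ Q.restrict _ j ≠ 0
  · obtain ⟨x, y, fr, j, hj, hjq⟩ := hns'
    have hW := finrank_W_ge fr h7
    have hl := (hline x y fr j hj hjq).1
    have hI : Iw fr K = ⊥ := by
      rw [eq_bot_iff]
      intro i hi
      have hj0 : j ≠ 0 := fun h => hjq (by rw [h, QuadraticMap.map_zero])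
      obtain ⟨y₀, hy₀⟩ := exists_polB_eq fr.nd' hj0 1
      obtain ⟨j', hq', hj'j, hj'y⟩ := exists_nonsing_perp fr hW j y₀
      have hj' : j' ∈ ann ψ (polB (Q.restrict ((polB Q).orthogonal (Submodule.span F {x, y})))) (Iw fr K) := fun i hi => by
        obtain ⟨r', rfl⟩ := Submodule.mem_span_singleton.1 (hl i hi)
        rw [map_smul, LinearMap.smul_apply, polB_comm, hj'j, smul_zero, AddChar.map_zero_eq_one]
      obtain ⟨r, hr⟩ := Submodule.mem_span_singleton.1 (hl i hi)
      obtain ⟨r', hr'⟩ := Submodule.mem_span_singleton.1 ((hline x y fr j' hj' hq').1 i hi)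
      have h1 := congrArg (fun z => polB (Q.restrict ((polB Q).orthogonal (Submodule.span F {x, y}))) z y₀) (hr.trans hr'.symm)
      simp only [map_smul, LinearMap.smul_apply, smul_eq_mul, hy₀, mul_one, hj'y, mul_zero] at h1
      rw [AddSubgroup.mem_bot, ← hr, h1, zero_smul]
    have hann : ∀ j', j' ∈ ann ψ (polB (Q.restrict ((polB Q).orthogonal (Submodule.span F {x, y})))) (Iw fr K) := fun j' i hi => by
      rw [hI, AddSubgroup.mem_bot] at hi
      rw [hi, map_zero, LinearMap.zero_apply, AddChar.map_zero_eq_one]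
    have hroots : ∀ a v, (Q.restrict ((polB Q).orthogonal (Submodule.span F {x, y}))) a = 0 → polB (Q.restrict ((polB Q).orthogonal (Submodule.span F {x, y}))) a v = 0 → el Q (fr.j a) (fr.j v) ∈ Lft fr K := by
      rcases (show Nat.card F = 2 ∨ Nat.card F = 3 by omega) with h | h
      · have := h8 h
        have hd := fr.finrank_eq
        refine all_roots_two fr K h h7 (by omega) fun j' hq' => ?_
        rcases (hline x y fr j' (hann j') hq').2 with ⟨h3, -⟩ | ⟨-, hr⟩
        · omega
        · exact hr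
      · intro a v ha hav
        obtain ⟨j', hq', hja, hjv⟩ := exists_nonsing_perp fr hW a v
        rcases (hline x y fr j' (hann j') hq').2 with ⟨-, hr⟩ | ⟨h2, -⟩
        · exact hr a v ha hav hja hjv
        · omega
    obtain ⟨p, hp0, hp, hpK⟩ := caseB_small fr K h7 hF hψ
      (fun c y fr j hj hjq => (hline c y fr j hj hjq).1) hI (stab_le_Lft fr K h7 hroots)
    exact hpoint hp0 hp hpK
  · push Not at hns'
    have hA : AllSing K := by
      intro x hx0 hx
      obtain ⟨y, ⟨fr⟩⟩ := exists_sing_frame hQ h7 hx0 hx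
      haveI := Module.finite_of_finite F (M := ↥((polB Q).orthogonal (Submodule.span F {x, y})))
      set J := ann ψ (polB (Q.restrict ((polB Q).orthogonal (Submodule.span F {x, y})))) (Iw fr K) with hJ
      have hJ0 : ∀ a ∈ J, Q (fr.j a) = 0 := fun a ha => by rw [fr.form]; exact hns' x y fr a ha
      set S : Set V := insert x (fr.j '' (J : Set _))
      have hS : ∀ a ∈ S, Q a = 0 ∧ ∀ b ∈ S, polB Q a b = 0 := by
        rintro a (rfl | ⟨a, ha, rfl⟩)
        · refine ⟨hx, ?_⟩
          rintro b (rfl | ⟨b, hb, rfl⟩)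
          · rw [polB_self, hx, mul_zero]
          · exact (fr.orth b).1
        · refine ⟨hJ0 a ha, ?_⟩
          rintro b (rfl | ⟨b, hb, rfl⟩)
          · exact (fr.orth' a).1
          · have h1 := hJ0 _ (J.add_mem ha hb)
            rw [map_add, qmap_add, hJ0 a ha, hJ0 b hb, zero_add, zero_add] at h1
            exact h1
      have hX : ∀ p ∈ Submodule.span F S, Q p = 0 ∧ ∀ b ∈ S, polB Q p b = 0 := by
        intro p hp
        induction hp using Submodule.span_induction with
        | mem a ha => exact hS a ha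
        | zero => exact ⟨QuadraticMap.map_zero Q, fun b _ => by simp⟩
        | add a b _ hbm ha hb =>
          have hab : polB Q a b = 0 :=
            (Submodule.span_le.2 (fun c hc => ha.2 c hc) : Submodule.span F S ≤ LinearMap.ker (polB Q a)) hbm
          refine ⟨by rw [qmap_add, ha.1, hb.1, hab, add_zero, add_zero], fun c hc => ?_⟩
          rw [map_add, LinearMap.add_apply, ha.2 c hc, hb.2 c hc, add_zero]
        | smul r a _ ha =>
          exact ⟨by rw [qmap_smul, ha.1, mul_zero], fun c hc => by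
            rw [map_smul, LinearMap.smul_apply, ha.2 c hc, smul_zero]⟩
      refine ⟨Submodule.span F S, Submodule.subset_span (Set.mem_insert _ _), fun p hp => (hX p hp).1,
        fun v hv => ?_⟩
      have hxv : polB Q x v = 0 := hv x (Submodule.subset_span (Set.mem_insert _ _))
      rw [el_eq_E h5 fr hxv, ← mem_Iw fr K h5,
        ← ann_ann hψ fr.nd' (fun a b => polB_comm a b) (Iw fr K)]
      intro a ha
      have : polB (Q.restrict ((polB Q).orthogonal (Submodule.span F {x, y}))) a (fr.P v) = 0 := by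
        rw [polB_comm, ← fr.b_P, polB_comm]
        exact hv _ (Submodule.subset_span (Set.mem_insert_of_mem _ ⟨a, ha, rfl⟩))
      rw [this, AddChar.map_zero_eq_one]
    obtain ⟨x, hx0, hx, hnf⟩ : ∃ x : V, x ≠ 0 ∧ Q x = 0 ∧ ¬ FullAt K x := by
      by_contra hcon
      push Not at hcon
      apply hK
      rw [eq_top_iff]
      intro g _
      refine (Subgroup.closure_le _).2 ?_ (closure_el hQ h5 g)
      rintro _ ⟨u, v, hu, -, huv, rfl⟩
      rcases eq_or_ne u 0 with rfl | hu0
      · have : el Q (0 : V) v = 1 := by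
          apply Subtype.ext
          rw [coe_el hQ h5 hu huv]
          apply orth_ext
          intro z
          rw [eichler_apply hu huv]
          simp
        rw [this]
        exact K.one_mem
      · exact hcon u hu0 hu v huv
    obtain ⟨m, hm, hX, hidx⟩ := caseT_small hQ h7 hA hx0 hx hnf
    exact hlt ((hmax m hm hX).trans hidx)

end H48.OrSmall
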