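import Cfsg.Agent.H34.Swaps

/-!
# Subgroups of index at most four and perfect generating sets
-/

set_option autoImplicit false

namespace H48.OrSmall

/-- A set of products of commutators of itself lies in every subgroup of index at most four. -/
theorem le_of_comm_closed {G : Type*} [Group G] [Finite G] (S : Set G)
    (hS : ∀ s ∈ S, s ∈ ⁅Subgroup.closure S, Subgroup.closure S⁆) {H K : Subgroup G}
    (hSK : S ⊆ K) (h : H.relIndex K ≤ 4) : Subgroup.closure S ≤ H := by
  classical
  set R := Subgroup.closure S
  have hR : ⁅R, R⁆ = R := le_antisymm (Subgroup.commutator_le_self R) ((Subgroup.closure_le _).2 hS)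
  have htop : ∀ n, derivedSeries R n = ⊤ := fun n => by
    induction n with
    | zero => rfl
    | succ n ih =>
      rw [derivedSeries_succ, ih]
      apply Subgroup.map_injective R.subtype_injective
      rw [← commutator_def, Subgroup.map_subtype_commutator, hR, ← MonoidHom.range_eq_map,
        Subgroup.range_subtype]
  set H' := H.subgroupOf R
  have hidx : Nat.card (R ⧸ H') ≤ 4 := by
    rw [← Subgroup.index_eq_card]
    refine le_trans (Subgroup.relIndex_le_of_le_right ((Subgroup.closure_le K).2 hSK) ?_) h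
    exact Subgroup.index_ne_zero_of_finite
  haveI := H34.Swaps.isSolvable_perm_le_four hidx
  let φ : R →* Equiv.Perm (R ⧸ H') := MulAction.toPermHom _ _
  obtain ⟨n, hn⟩ := Group.IsSolvable.solvable (G := Equiv.Perm (R ⧸ H'))
  intro g hg
  have h1 : φ ⟨g, hg⟩ ∈ derivedSeries (Equiv.Perm (R ⧸ H')) n :=
    map_derivedSeries_le_derivedSeries φ n ⟨⟨g, hg⟩, by rw [htop]; trivial, rfl⟩
  rw [hn, Subgroup.mem_bot] at h1
  have h2 : (⟨g, hg⟩ : R) • ((1 : R) : R ⧸ H') = ((1 : R) : R ⧸ H') := by
    have := Equiv.congr_fun h1 ((1 : R) : R ⧸ H')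
    simpa [φ] using this
  rw [MulAction.Quotient.smul_coe, smul_eq_mul, mul_one] at h2
  have h3 := QuotientGroup.eq.1 h2.symm
  rw [inv_one, one_mul] at h3
  exact h3

end H48.OrSmall
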