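import Cfsg.Agent.H48.OrSmall.Short

/-!
# A long root element lifts inside its plane
-/

set_option autoImplicit false
set_option linter.unusedSectionVars false

namespace H48.OrSmall

open H43 H50.Or H48.OrIdx

universe u w w'

variable {F : Type u} [Field F] [Finite F] {V : Type w} [AddCommGroup V] [Module F V]
  [FiniteDimensional F V] {Q : QuadraticForm F V}
  {W : Type w'} [AddCommGroup W] [Module F W] [FiniteDimensional F W] {Q' : QuadraticForm F W}
  {x y : V} (fr : Frame Q x y Q') (K : Subgroup (Om Q))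

/-- No point has a non-singular class outside the line of its own. -/
def Good (K : Subgroup (Om Q)) (ψ : AddChar F ℂ) : Prop :=
  ∀ (c y : V) (fr : Frame Q c y (Q.restrict ((polB Q).orthogonal (Submodule.span F {c, y})))) (j : _),
    j ∈ ann ψ (polB (Q.restrict _)) (Iw fr K) → Q.restrict _ j ≠ 0 →
      ∀ i ∈ Iw fr K, i ∈ F ∙ j

/-- Shifting the frame by a radical element. -/
theorem exists_shift (h7 : 7 ≤ Module.finrank F V) (u : W) :
    ∃ fr' : Frame Q x ((fr.E u).1 y) Q', Iw fr' K = Iw fr K ∧ Lft fr' K = Lft fr K ∧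
      (∀ b, el Q x (fr'.j b) = el Q x (fr.j b)) ∧
      ∀ a v : W, Q' a = 0 → polB Q' a v = 0 →
        gr fr' a v = el Q x (fr.j (u - rho fr (gr fr a v) u)) * gr fr a v := by
  have h5 : 5 ≤ Module.finrank F V := by omega
  refine ⟨{ nd := fr.nd
            pair := ⟨fr.pair.left, by rw [orth_qmap]; exact fr.pair.right, ?_⟩
            j := ((fr.E u).1 : V →ₗ[F] V).comp fr.j
            inj := (fr.E u).1.injective.comp fr.inj
            form := fun a => by
              show Q ((fr.E u).1 (fr.j a)) = _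
              rw [orth_qmap, fr.form]
            orth := fun a => ⟨?_, by
              show polB Q ((fr.E u).1 y) ((fr.E u).1 (fr.j a)) = 0
              rw [orth_polB_map, (fr.orth a).2]⟩
            surj := fun z h1 h2 => ?_ }, ?_, ?_, ?_, ?_⟩
  · rw [polB_E, fr.pair.pair]
  · show polB Q x ((fr.E u).1 (fr.j a)) = 0
    rw [polB_E, (fr.orth a).1]
  · obtain ⟨z', rfl⟩ : ∃ z', (fr.E u).1 z' = z := ⟨(fr.E u).1.symm z, (fr.E u).1.apply_symm_apply z⟩
    rw [polB_E] at h1
    rw [orth_polB_map] at h2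
    obtain ⟨a, ha⟩ := fr.surj z' h1 h2
    exact ⟨a, by show (fr.E u).1 (fr.j a) = _; rw [ha]⟩
  all_goals
    have key : ∀ a : W, el Q x ((fr.E u).1 (fr.j a)) = el Q x (fr.j a) := fun a => by
      have hp : polB Q x (fr.j a) = 0 := (fr.orth a).1
      have hp' : polB Q x ((fr.E u).1 (fr.j a)) = 0 := by rw [polB_E, hp]
      rw [el_eq_E h5 fr hp']
      congr 2
      rw [fr.E_j, map_sub, map_smul, fr.P_x, fr.P_j, smul_zero, sub_zero]
  · simp [Iw, key]
  · simp [Lft, key]
  · exact key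
  · intro a v ha hav
    show el Q ((fr.E u).1 (fr.j a)) ((fr.E u).1 (fr.j v)) = _
    have hg := gr_mem_stab fr h7 ha hav
    have hc : el Q ((fr.E u).1 (fr.j a)) ((fr.E u).1 (fr.j v)) =
        el Q x (fr.j u) * gr fr a v * (el Q x (fr.j u))⁻¹ := by
      rw [gr, el_conj fr.nd h5 _ (by rw [fr.form, ha]) (by rw [fr.bform, hav]), el_E fr h5]
    have e : gr fr a v * (el Q x (fr.j u))⁻¹ =
        el Q x (fr.j (-rho fr (gr fr a v) u)) * gr fr a v := by
      have := conj_el fr h5 (stab_le_PS x hg) u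
      rw [lam_of_fix fr (mem_stab.1 hg), one_smul] at this
      have h2 := congrArg (·⁻¹) this
      simp only [mul_inv_rev, inv_inv, el_neg fr h5] at h2
      rw [rho, ← h2, ← el_neg fr h5]
      group
    rw [hc, mul_assoc, e, ← mul_assoc, el_add fr h5, sub_eq_add_neg]

variable (h7 : 7 ≤ Module.finrank F V) (hI : Iw fr K = ⊥) (hst : stab Q x ≤ Lft fr K)
  (hW : 5 ≤ Module.finrank F W) (hF : Nat.card F ≤ 3)

include h7 hI hst hW hF

/-- Some long root element lifts inside its plane. -/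
theorem plane_exists {ψ : AddChar F ℂ} (hψ : ψ.IsPrimitive) (hgood : Good K ψ) :
    ∃ a b : W, a ≠ 0 ∧ Q' a = 0 ∧ Q' b = 0 ∧ polB Q' a b = 0 ∧ b ∉ F ∙ a ∧ PlaneLift fr K a b := by
  classical
  have h5 : 5 ≤ Module.finrank F V := by omega
  have hnd := fr.nd'
  obtain ⟨a, v, ha0, ha, hav, hqv, s, t, hsv⟩ := short_lift fr K h7 hI hst hW hF
  -- shift so that the short root element lies in the subgroup
  obtain ⟨u, hua, huv⟩ : ∃ u, polB Q' a u = -s ∧ polB Q' v u = t + Q' v * s := by
    have hva : v ∉ F ∙ a := fun h => by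
      obtain ⟨r, hr⟩ := Submodule.mem_span_singleton.1 h
      exact hqv (by rw [← hr, qmap_smul, ha, mul_zero])
    obtain ⟨u₁, h₁, h₂⟩ := exists_orth_polB_eq hnd hva 1
    have h₁' := h₁ a (Submodule.mem_span_singleton_self a)
    obtain ⟨u₂, h₃, h₄⟩ := exists_orth_polB_eq hnd (not_mem_span_of_qmap hqv ha ha0) 1
    have h₃' := h₃ v (Submodule.mem_span_singleton_self v)
    exact ⟨(-s) • u₂ + (t + Q' v * s) • u₁, by simp [h₁', h₄], by simp [h₂, h₃']⟩
  obtain ⟨fr', hI', hL', hU, hgr⟩ := exists_shift fr K h7 u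
  have hshift : u - rho fr (gr fr a v) u = s • v + t • a := by
    rw [rho_gr fr h7 ha hav, polB_comm u a, hua, polB_comm u v, huv]
    module
  have hK : gr fr' a v ∈ K := by
    rw [hgr a v ha hav, hshift, ← hsv]
    exact cw_spec fr K h7 hst (gr_mem_stab fr h7 ha hav)
  rw [← hI'] at hI
  rw [← hL'] at hst
  -- the point of the short root element
  set c := fr'.j a
  have hc : Q c = 0 := by rw [fr'.form, ha]
  have hc0 : c ≠ 0 := fun h => ha0 (fr'.inj (h.trans (map_zero _).symm))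
  obtain ⟨d, hd⟩ := exists_hypPair fr'.nd hc hc0
  obtain ⟨fa⟩ := exists_frame fr'.nd hd
  haveI := Module.finite_of_finite F (M := ↥((polB Q).orthogonal (Submodule.span F {c, d})))
  set Qc := Q.restrict ((polB Q).orthogonal (Submodule.span F {c, d}))
  have hdc : 5 ≤ Module.finrank F ↥((polB Q).orthogonal (Submodule.span F {c, d})) := finrank_W_ge fa (by omega)
  set J := ann ψ (polB Qc) (Iw fa K) with hJdef
  have hcv : polB Q c (fr'.j v) = 0 := by rw [fr'.bform, hav]
  have hvI : fa.P (fr'.j v) ∈ Iw fa K := by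
    rw [mem_Iw fa K h5, ← el_eq_E h5 fa hcv]
    exact hK
  have hvq : Qc (fa.P (fr'.j v)) ≠ 0 := by rw [P_qmap fa hcv, fr'.form]; exact hqv
  have hts : ∀ k ∈ J, Qc k = 0 := by
    intro k hk
    by_contra hkq
    have hline := hgood c d fa k hk hkq
    obtain ⟨r, hr⟩ := Submodule.mem_span_singleton.1 (hline _ hvI)
    have hk0 : k ≠ 0 := fun h => hkq (by rw [h, QuadraticMap.map_zero])
    obtain ⟨y₀, hy₀⟩ := exists_polB_eq fa.nd' hk0 1
    obtain ⟨k', hk'q, hk'k, hk'y⟩ := exists_nonsing_perp fa hdc k y₀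
    have hk' : k' ∈ J := fun i hi => by
      obtain ⟨r', rfl⟩ := Submodule.mem_span_singleton.1 (hline i hi)
      rw [map_smul, LinearMap.smul_apply, polB_comm, hk'k, smul_zero, AddChar.map_zero_eq_one]
    obtain ⟨r', hr'⟩ := Submodule.mem_span_singleton.1 (hgood c d fa k' hk' hk'q _ hvI)
    have h1 := congrArg (fun z => polB Qc z y₀) (hr.trans hr'.symm)
    simp only [map_smul, LinearMap.smul_apply, smul_eq_mul, hy₀, mul_one, hk'y, mul_zero] at h1
    exact hvq (by rw [← hr, h1, zero_smul, QuadraticMap.map_zero])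
  have hperpJ : ∀ k ∈ J, ∀ l ∈ J, polB Qc k l = 0 := fun k hk l hl => by
    have := hts _ (J.add_mem hk hl)
    rwa [qmap_add, hts k hk, hts l hl, zero_add, zero_add] at this
  have hcx : polB Q c x = 0 := (fr'.orth' a).1
  set px := fa.P x with hpx
  -- a singular direction in the image, orthogonal to `x`
  obtain ⟨r, hr0, hrq, hrI, hrx⟩ : ∃ r, r ≠ 0 ∧ Qc r = 0 ∧ r ∈ Iw fa K ∧ polB Qc px r = 0 := by
    have hmemI : ∀ r, (∀ k ∈ J, polB Qc k r = 0) → r ∈ Iw fa K := fun r hr => by
      rw [← ann_ann hψ fa.nd' (fun a b => polB_comm a b) (Iw fa K)]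
      intro i hi
      rw [hr i hi, AddChar.map_zero_eq_one]
    by_cases hex : ∃ k ∈ J, k ≠ 0 ∧ polB Qc px k = 0
    · obtain ⟨k, hk, hk0, hkx⟩ := hex
      exact ⟨k, hk0, hts k hk, hmemI k fun l hl => hperpJ l hl k hk, hkx⟩
    push Not at hex
    obtain ⟨k₀, hJk⟩ : ∃ k₀, ∀ k ∈ J, k ∈ F ∙ k₀ := by
      by_cases hz : ∃ k ∈ J, k ≠ 0
      · obtain ⟨k, hk, hk0⟩ := hz
        refine ⟨k, fun l hl => Submodule.mem_span_singleton.2 ⟨polB Qc px l / polB Qc px k, ?_⟩⟩
        have hmem : l - (polB Qc px l / polB Qc px k) • k ∈ J := J.sub_mem hl (smul_mem_small hF hk _)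
        by_contra hne
        apply hex _ hmem (fun h => hne (sub_eq_zero.1 h).symm)
        rw [map_sub, map_smul, smul_eq_mul, div_mul_cancel₀ _ (hex k hk hk0), sub_self]
      · push Not at hz
        exact ⟨0, fun l hl => by rw [hz l hl]; exact Submodule.zero_mem _⟩
    obtain ⟨r, hr, hr0, hrq⟩ := exists_singular_in (Q := Qc)
      ((polB Qc).orthogonal (Submodule.span F {k₀, px})) (by
      have := finrank_orth_pair fa.nd' k₀ px
      omega)
    obtain ⟨h1, h2⟩ := mem_orth_pair.1 hr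
    refine ⟨r, hr0, hrq, hmemI r fun k hk => ?_, h2⟩
    obtain ⟨c', rfl⟩ := Submodule.mem_span_singleton.1 (hJk k hk)
    rw [map_smul, LinearMap.smul_apply, h1, smul_zero]
  -- its vector
  set R := fa.j r
  have hRc : polB Q c R = 0 := (fa.orth r).1
  have hRx : polB Q x R = 0 := by rw [fa.b_P]; exact hrx
  have hRK : el Q c R ∈ K := (mem_Iw fa K h5).1 hrI
  set b := fr'.P R
  set σ := polB Q R ((fr.E u).1 y) with hσ
  have hRb : R = σ • x + fr'.j b := by rw [j_P_perp fr' hRx]; abel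
  have hb : Q' b = 0 := by rw [P_qmap fr' hRx, fa.form, hrq]
  have hab : polB Q' a b = 0 := by
    have h := hRc
    rw [hRb, map_add, map_smul, hcx, smul_zero, zero_add, fr'.bform] at h
    exact h
  have hjb : polB Q c (fr'.j b) = 0 := by rw [fr'.bform, hab]
  have hsx : el Q c (σ • x) = el Q x (fr'.j ((-σ) • a)) := by
    rcases eq_or_ne σ 0 with h | h
    · rw [h, zero_smul, el_zero fr.nd h5 hc, neg_zero, zero_smul, el_zero' fr' h5]
    · rw [el_swap fr.nd h7 (by rw [qmap_smul, fr.qx, mul_zero]) hc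
        (by rw [map_smul, LinearMap.smul_apply, polB_comm, hcx, smul_zero]),
        el_smul_left fr.nd h7 fr.qx (by rw [map_neg, polB_comm, hcx, neg_zero]) h, map_smul, smul_neg,
        neg_smul]
  have hmem : el Q x (fr'.j ((-σ) • a)) * gr fr' a b ∈ K := by
    rw [← hsx, gr, el_mul fr.nd h5 hc (by rw [map_smul, hcx, smul_zero]) hjb, ← hRb]
    exact hRK
  have hbn : b ∉ F ∙ a := by
    intro h
    obtain ⟨τ, hτ⟩ := Submodule.mem_span_singleton.1 h
    have h1 : gr fr' a b = 1 := by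
      rw [← hτ, show τ • a = 0 + τ • a from (zero_add _).symm, gr_add_self fr' h7 ha (map_zero _),
        gr_zero fr' h7 ha]
    rw [h1, mul_one, ← mem_Iw fr' K h5, hI, AddSubgroup.mem_bot, smul_eq_zero, neg_eq_zero] at hmem
    have hσ0 := hmem.resolve_right ha0
    apply hr0
    rw [← fa.P_j r, show fa.j r = R from rfl, hRb, hσ0, zero_smul, zero_add, ← hτ, map_smul, map_smul,
      show fr'.j a = c from rfl, fa.P_x, smul_zero]
  refine ⟨a, b, ha0, ha, hb, hab, hbn, fun z haz hbz => ?_⟩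
  rw [hgr a b ha hab, hU, ← mul_assoc, el_add fr h5] at hmem
  rw [hI'] at hI
  rw [hL'] at hst
  rw [cw_unique fr K h7 hI hst (gr_mem_stab fr h7 ha hab) hmem, map_add, LinearMap.add_apply, map_sub,
    LinearMap.sub_apply, B_rho fr h7 ha hab, hbz, haz, map_smul, LinearMap.smul_apply, haz]
  simp

end H48.OrSmall
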