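import Cfsg.Agent.H48.OrSmall.Plane

/-!
# All long root elements lift inside their planes
-/

set_option autoImplicit false
set_option linter.unusedSectionVars false

namespace H48.OrSmall

open H43 H50.Or H48.OrIdx

universe u w w'

variable {F : Type u} [Field F] [Finite F] {V : Type w} [AddCommGroup V] [Module F V]
  [FiniteDimensional F V] {Q : QuadraticForm F V}
  {W : Type w'} [AddCommGroup W] [Module F W] [FiniteDimensional F W] {Q' : QuadraticForm F W}
  {x y : V} (fr : Frame Q x y Q') (K : Subgroup (Om Q))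

omit [FiniteDimensional F V] in
/-- An Eichler element of the complement moving one singular vector to a multiple of another. -/
theorem exists_root_move (hnd : (polB Q').Nondegenerate) (hW : 5 ≤ Module.finrank F W) {f r r' : W}
    (hf : Q' f = 0) (hr : Q' r = 0) (hr' : Q' r' = 0) (hfr : polB Q' f r = 0) (hfr' : polB Q' f r' = 0)
    (h1 : r' ∉ Submodule.span F {f, r}) (h2 : r ∉ F ∙ f) :
    ∃ (c v : W) (t : F), t ≠ 0 ∧ Q' c = 0 ∧ polB Q' c v = 0 ∧
      f + polB Q' f c • v - polB Q' f v • c - (Q' v * polB Q' f c) • c = f ∧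
      r + polB Q' r c • v - polB Q' r v • c - (Q' v * polB Q' r c) • c = t • r' := by
  classical
  have hrf : polB Q' r f = 0 := by rw [polB_comm]; exact hfr
  have hr'f : polB Q' r' f = 0 := by rw [polB_comm]; exact hfr'
  set β := polB Q' r r'
  have hr'r : polB Q' r' r = β := polB_comm _ _
  suffices h : ∃ (c : W) (t : F), t ≠ 0 ∧ Q' c = 0 ∧ polB Q' f c = 0 ∧ polB Q' r c = 1 ∧
      polB Q' r' c * t = 1 by
    obtain ⟨c, t, ht, hc, hfc, hrc, hr'c⟩ := h
    refine ⟨c, t • r' - r, t, ht, hc, ?_, ?_, ?_⟩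
    · rw [map_sub, map_smul, polB_comm c r', polB_comm c r, hrc, smul_eq_mul, mul_comm, hr'c, sub_self]
    · simp [hfc, hfr, hfr']
    · have hq : Q' (t • r' - r) = -(t * β) := by
        rw [sub_eq_add_neg, qmap_add, qmap_smul, qmap_neg, hr, hr', map_smul, LinearMap.smul_apply,
          map_neg, hr'r, smul_eq_mul]
        ring
      have hb : polB Q' r (t • r' - r) = t * β := by
        rw [map_sub, map_smul, polB_self, hr, smul_eq_mul]
        ring
      rw [hq, hb, hrc]
      module
  by_cases hb : β = 0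
  · have hnot : r ∉ Submodule.span F {f, r' - r} := by
      intro h
      obtain ⟨p, s, hps⟩ := Submodule.mem_span_pair.1 h
      rcases eq_or_ne s 0 with rfl | hs
      · rw [zero_smul, add_zero] at hps
        exact h2 (Submodule.mem_span_singleton.2 ⟨p, hps⟩)
      · apply h1
        refine Submodule.mem_span_pair.2 ⟨-(s⁻¹ * p), s⁻¹ * (1 + s), ?_⟩
        rw [mul_smul, add_smul, one_smul]
        conv_lhs => arg 2; arg 2; arg 1; rw [← hps]
        rw [smul_sub]
        match_scalars <;> field_simp <;> ring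
    obtain ⟨y₀, hy₀, hry⟩ := exists_orth_polB_eq hnd hnot 1
    have hfy := hy₀ f (Submodule.subset_span (by simp))
    have hdy := hy₀ (r' - r) (Submodule.subset_span (by simp))
    rw [map_sub, LinearMap.sub_apply, hry, sub_eq_zero] at hdy
    refine ⟨y₀ + (-Q' y₀) • r, 1, one_ne_zero, ?_, by simp [hfy, hfr], by simp [hry, polB_self, hr], ?_⟩
    · rw [qmap_add, qmap_smul, hr, map_smul, polB_comm y₀ r, hry, smul_eq_mul]
      ring
    · rw [mul_one, map_add, map_smul, hdy, hr'r, hb, smul_zero, add_zero]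
  · obtain ⟨e, he, heq⟩ : ∃ e ∈ (polB Q').orthogonal (Submodule.span F {f, r, r'}), Q' e ≠ 0 := by
      by_contra hcon
      push Not at hcon
      set U := (polB Q').orthogonal (Submodule.span F {f, r, r'})
      have hle : U ≤ F ∙ f := by
        intro z hz
        have hz' : z ∈ (polB Q').orthogonal U := fun w hw => polB_eq_zero_of_singular hcon hw hz
        rw [show (polB Q').orthogonal U = Submodule.span F {f, r, r'} from
          LinearMap.BilinForm.orthogonal_orthogonal hnd (polB_isRefl Q') _] at hz'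
        obtain ⟨p, z', hz'', rfl⟩ := Submodule.mem_span_insert.1 hz'
        obtain ⟨s, s', rfl⟩ := Submodule.mem_span_pair.1 hz''
        have e1 := hz r (Submodule.subset_span (by simp))
        have e2 := hz r' (Submodule.subset_span (by simp))
        simp only [map_add, map_smul, hrf, hr'f, polB_self r, hr, polB_self r', hr', hr'r, smul_eq_mul,
          mul_zero, zero_add, add_zero] at e1 e2
        rw [(mul_eq_zero.1 e1).resolve_right hb, (mul_eq_zero.1 e2).resolve_right hb, zero_smul, zero_smul,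
          add_zero, add_zero]
        exact Submodule.smul_mem _ _ (Submodule.mem_span_singleton_self f)
      have h3 := Submodule.finrank_mono hle
      have h4 : Module.finrank F U + Module.finrank F (Submodule.span F ({f, r, r'} : Set W)) =
          Module.finrank F W := finrank_orth_add hnd _
      have h5 : Module.finrank F (Submodule.span F ({f, r, r'} : Set W)) ≤ 3 :=
        le_trans (finrank_span_le_card _) (by
          rw [Set.toFinset_card, ← Nat.card_eq_fintype_card, Nat.card_coe_set_eq]
          exact (Set.ncard_insert_le _ _).trans (Nat.succ_le_succ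
            ((Set.ncard_insert_le _ _).trans (by rw [Set.ncard_singleton]))))
      have h6 : Module.finrank F (F ∙ f : Submodule F W) ≤ 1 :=
        le_trans (finrank_span_le_card _) (by simp)
      omega
    have hfe := he f (Submodule.subset_span (by simp))
    have hre := he r (Submodule.subset_span (by simp))
    have hr'e := he r' (Submodule.subset_span (by simp))
    set t := -(β * Q' e)⁻¹
    have ht : t ≠ 0 := neg_ne_zero.2 (inv_ne_zero (mul_ne_zero hb heq))
    set c := (t * β)⁻¹ • (r + t • r') + e with hc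
    refine ⟨c, t, ht, ?_, ?_, ?_, ?_⟩
    · rw [hc, qmap_add, qmap_smul, qmap_add, qmap_smul, hr, hr']
      simp only [map_add, map_smul, LinearMap.add_apply, LinearMap.smul_apply, hre, hr'e, smul_eq_mul,
        mul_zero, add_zero, zero_add]
      show (t * β)⁻¹ * (t * β)⁻¹ * (t * β) + Q' e = 0
      simp only [t]
      field_simp
      ring
    · simp [hc, hfr, hfr', hfe]
    · simp [hc, polB_self, hr, hre, show polB Q' r r' = β from rfl]
      field_simp
    · simp only [hc, map_add, map_smul, polB_self r', hr', hr'e, hr'r, smul_eq_mul]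
      field_simp
      ring

section basic

variable (h7 : 7 ≤ Module.finrank F V) (hI : Iw fr K = ⊥) (hst : stab Q x ≤ Lft fr K)
  (hW : 5 ≤ Module.finrank F W) (hF : Nat.card F ≤ 3)

include h7 hI hst hW hF

theorem plane_shift {a b : W} (ha0 : a ≠ 0) (ha : Q' a = 0) (hab : polB Q' a b = 0)
    (h : PlaneLift fr K a b) (t s : F) (ht : t ≠ 0) :
    PlaneLift fr K a (t • b + s • a) := by
  intro z haz hbz
  rw [gr_add_self fr h7 ha (by rw [map_smul, hab, smul_zero]),
    B_cw_smul fr K h7 hI hst hW hF ha0 ha hab haz]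
  have hbz' : polB Q' b z = 0 := by
    simpa [haz, ht] using hbz
  rw [h z haz hbz', mul_zero]

theorem plane_swap {a b : W} (ha0 : a ≠ 0) (ha : Q' a = 0) (hb : Q' b = 0)
    (hab : polB Q' a b = 0) (h : PlaneLift fr K a b) : PlaneLift fr K b a := by
  intro z hbz haz
  rw [gr_swap fr K h7 hI hst hW ha hb hab, show (-b : W) = (-1 : F) • b by rw [neg_one_smul],
    B_cw_smul fr K h7 hI hst hW hF ha0 ha hab haz, h z haz hbz, mul_zero]

theorem plane_move {a b c v : W} (hc : Q' c = 0) (hcv : polB Q' c v = 0) (ha : Q' a = 0)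
    (hab : polB Q' a b = 0) (h : PlaneLift fr K a b) :
    PlaneLift fr K (rho fr (gr fr c v) a) (rho fr (gr fr c v) b) := by
  have hs : ∀ p r, polB Q' (rho fr (gr fr c v) p) (rho fr (gr fr c v) r) = polB Q' p r := fun p r => by
    rw [rho_gr fr h7 hc hcv, rho_gr fr h7 hc hcv, ← eichlerLin_apply, ← eichlerLin_apply]
    have h1 : ∀ z, Q' (eichlerLin Q' c v z) = Q' z := fun z => eichlerLin_qmap hc hcv z
    rw [polB_apply, polB_apply, QuadraticMap.polar, QuadraticMap.polar, ← map_add, h1, h1, h1]
  have hqa : Q' (rho fr (gr fr c v) a) = 0 := by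
    rw [rho_gr fr h7 hc hcv, ← eichlerLin_apply, eichlerLin_qmap hc hcv, ha]
  have hab' : polB Q' (rho fr (gr fr c v) a) (rho fr (gr fr c v) b) = 0 := by rw [hs, hab]
  intro z' h1 h2
  set g := gr fr c v
  obtain ⟨z, rfl⟩ : ∃ z, rho fr g z = z' := by
    refine ⟨rho fr (gr fr c (-v)) z', ?_⟩
    have hcv' : polB Q' c (-v) = 0 := by rw [map_neg, hcv, neg_zero]
    rw [rho_gr fr h7 hc hcv', rho_gr fr h7 hc hcv]
    simp [polB_self, hc, hcv, polB_comm v c, qmap_neg]
    module
  rw [hs] at h1 h2
  have hg := gr_mem_stab fr h7 hc hcv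
  have hg0 := gr_mem_stab fr h7 ha hab
  have hg' := gr_mem_stab fr h7 hqa hab'
  have e : g * gr fr a b = gr fr (rho fr g a) (rho fr g b) * g := by
    rw [← gr_conj fr h7 hc hcv ha hab]
    show g * gr fr a b = g * gr fr a b * g⁻¹ * g
    group
  have h3 := congrArg (fun w => polB Q' w (rho fr g z))
    ((cw_mul fr K h7 hI hst hg hg0).symm.trans ((congrArg (cw fr K) e).trans (cw_mul fr K h7 hI hst hg' hg)))
  simp only [map_add, LinearMap.add_apply] at h3
  have h1' : polB Q' (rho fr g a) (rho fr g z) = 0 := by rw [hs, h1]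
  have h2' : polB Q' (rho fr g b) (rho fr g z) = 0 := by rw [hs, h2]
  rw [hs, h z h1 h2, B_rho fr h7 hqa hab', h1', h2'] at h3
  linear_combination -h3

/-- All long root elements lift inside their planes. -/
theorem plane_all {ψ : AddChar F ℂ} (hψ : ψ.IsPrimitive) (hgood : Good K ψ) {a b : W}
    (ha0 : a ≠ 0) (ha : Q' a = 0) (hb : Q' b = 0) (hab : polB Q' a b = 0) (hba : b ∉ F ∙ a) :
    PlaneLift fr K a b := by
  classical
  obtain ⟨a₀, b₀, ha₀0, ha₀, hb₀, hab₀, hba₀, h⟩ := plane_exists fr K h7 hI hst hW hF hψ hgood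
  have hnd := fr.nd'
  -- the first vector
  obtain ⟨b₁, hb₁, hab₁, hba₁, h1⟩ : ∃ b₁, Q' b₁ = 0 ∧ polB Q' a b₁ = 0 ∧ b₁ ∉ F ∙ a ∧
      PlaneLift fr K a b₁ := by
    by_cases hmem : a ∈ F ∙ a₀
    · obtain ⟨t, ht⟩ := Submodule.mem_span_singleton.1 hmem
      have ht0 : t ≠ 0 := fun e => ha0 (by rw [← ht, e, zero_smul])
      have h2 := plane_swap fr K h7 hI hst hW hF ha₀0 ha₀ hb₀ hab₀ h
      have hb₀0 : b₀ ≠ 0 := fun e => hba₀ (by rw [e]; exact Submodule.zero_mem _)
      have h3 := plane_shift fr K h7 hI hst hW hF hb₀0 hb₀ (by rw [polB_comm]; exact hab₀) h2 t 0 ht0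
      rw [zero_smul, add_zero, ht] at h3
      refine ⟨b₀, hb₀, by rw [← ht, map_smul, LinearMap.smul_apply, hab₀, smul_zero], fun e => hba₀ ?_,
        plane_swap fr K h7 hI hst hW hF hb₀0 hb₀ ha
          (by rw [← ht, map_smul, polB_comm b₀ a₀, hab₀, smul_zero]) h3⟩
      exact (Submodule.span_singleton_le_iff_mem _ _).2 hmem e
    · obtain ⟨c, v, t, ht, hc, hcv, -, hmove⟩ := exists_root_move hnd hW (f := (0 : W))
        (QuadraticMap.map_zero _) ha₀ ha (by simp) (by simp)
        (fun e => hmem (by rw [Submodule.span_insert_zero] at e; exact e))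
        (fun e => ha₀0 (by rw [Submodule.span_zero_singleton, Submodule.mem_bot] at e; exact e))
      have h2 := plane_move fr K h7 hI hst hW hF hc hcv ha₀ hab₀ h
      rw [rho_gr fr h7 hc hcv a₀, hmove] at h2
      set b' := rho fr (gr fr c v) b₀
      have hb' : Q' b' = 0 := by
        rw [show b' = rho fr (gr fr c v) b₀ from rfl, rho_gr fr h7 hc hcv, ← eichlerLin_apply,
          eichlerLin_qmap hc hcv, hb₀]
      have hab' : polB Q' (t • a) b' = 0 := by
        rw [← hmove, show b' = rho fr (gr fr c v) b₀ from rfl, rho_gr fr h7 hc hcv, ← eichlerLin_apply,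
          ← eichlerLin_apply, polB_apply, QuadraticMap.polar, ← map_add, eichlerLin_qmap hc hcv,
          eichlerLin_qmap hc hcv, eichlerLin_qmap hc hcv, ← QuadraticMap.polar, ← polB_apply, hab₀]
      have hb'0 : b' ∉ F ∙ a := by
        intro e
        obtain ⟨r, hr⟩ := Submodule.mem_span_singleton.1 e
        apply hba₀
        refine Submodule.mem_span_singleton.2 ⟨r * t⁻¹, ?_⟩
        apply (gr fr c v).1.1.injective.comp fr.inj
        show (gr fr c v).1.1 (fr.j _) = (gr fr c v).1.1 (fr.j _)
        rw [gr_apply_j fr h7 hc hcv, gr_apply_j fr h7 hc hcv]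
        congr 1
        have e2 : b₀ + polB Q' b₀ c • v - polB Q' b₀ v • c - (Q' v * polB Q' b₀ c) • c = b' :=
          (rho_gr fr h7 hc hcv b₀).symm
        rw [e2, ← hr]
        calc _ = (r * t⁻¹) • (a₀ + polB Q' a₀ c • v - polB Q' a₀ v • c - (Q' v * polB Q' a₀ c) • c) := by
              simp only [map_smul, LinearMap.smul_apply, smul_eq_mul]
              module
          _ = r • a := by rw [hmove, smul_smul, inv_mul_cancel_right₀ ht]
      have hb'n : b' ≠ 0 := fun e => hb'0 (by rw [e]; exact Submodule.zero_mem _)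
      have h3 := plane_swap fr K h7 hI hst hW hF (smul_ne_zero ht ha0) (by rw [qmap_smul, ha, mul_zero])
        hb' hab' h2
      have h4 := plane_shift fr K h7 hI hst hW hF hb'n hb' (by rw [polB_comm]; exact hab') h3 t⁻¹ 0
        (inv_ne_zero ht)
      rw [zero_smul, add_zero, smul_smul, inv_mul_cancel₀ ht, one_smul] at h4
      have hab'' : polB Q' a b' = 0 := by
        rw [map_smul, LinearMap.smul_apply, smul_eq_mul, mul_eq_zero] at hab'
        exact hab'.resolve_left ht
      exact ⟨b', hb', hab'', hb'0, plane_swap fr K h7 hI hst hW hF hb'n hb' ha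
        (by rw [polB_comm]; exact hab'') h4⟩
  -- the second vector
  by_cases hmem : b ∈ Submodule.span F {a, b₁}
  · obtain ⟨s, t, hst'⟩ := Submodule.mem_span_pair.1 hmem
    have ht : t ≠ 0 := fun e => hba (Submodule.mem_span_singleton.2 ⟨s, by rw [← hst', e, zero_smul, add_zero]⟩)
    have := plane_shift fr K h7 hI hst hW hF ha0 ha hab₁ h1 t s ht
    rwa [add_comm, hst'] at this
  · obtain ⟨c, v, t, ht, hc, hcv, hfix, hmove⟩ := exists_root_move hnd hW ha hb₁ hb hab₁ hab hmem hba₁
    have h2 := plane_move fr K h7 hI hst hW hF hc hcv ha hab₁ h1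
    rw [rho_gr fr h7 hc hcv a, hfix, rho_gr fr h7 hc hcv b₁, hmove] at h2
    have := plane_shift fr K h7 hI hst hW hF ha0 ha (by rw [map_smul, hab, smul_zero]) h2 t⁻¹ 0 (inv_ne_zero ht)
    rwa [zero_smul, add_zero, smul_smul, inv_mul_cancel₀ ht, one_smul] at this

end basic

end H48.OrSmall
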