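import Cfsg.Agent.H48.OrIdx.Local
import Cfsg.Agent.H48.OrIdx.CaseA
import Cfsg.Agent.H48.OrSmall.Perfect

/-!
# Root elements in subgroups of index at most four of a class stabiliser
-/

set_option autoImplicit false
set_option linter.unusedSectionVars false

namespace H48.OrSmall

open H43 H50.Or H48.OrIdx

universe u w w'

variable {F : Type u} [Field F] [Finite F] {V : Type w} [AddCommGroup V] [Module F V]
  [FiniteDimensional F V] {Q : QuadraticForm F V}

/-- The commutator of two root elements. -/
theorem comm_el (hQ : (polB Q).Nondegenerate) (h7 : 7 ≤ Module.finrank F V) {a b u v : V}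
    (ha : Q a = 0) (hb : Q b = 0) (hau : polB Q a u = 0) (hbv : polB Q b v = 0)
    (hab : polB Q a b = 0) (hav : polB Q a v = 0) :
    el Q b v * el Q a u * (el Q b v)⁻¹ * (el Q a u)⁻¹ =
      el Q a (polB Q u b • v - (polB Q u v + Q v * polB Q u b) • b) := by
  have h5 : 5 ≤ Module.finrank F V := by omega
  have hga : (el Q b v).1.1 a = a := el_fix hQ h7 hb hbv hab hav
  have hgu : polB Q a ((el Q b v).1.1 u) = 0 := by
    have := orth_polB_map (el Q b v).1 a u
    rwa [hga, hau] at this
  rw [el_conj hQ h5 _ ha hau, hga]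
  have h1 : (el Q a u)⁻¹ = el Q a (-u) := inv_eq_of_mul_eq_one_right (by
    rw [el_mul hQ h5 ha hau (by rw [map_neg, hau, neg_zero]), add_neg_cancel, el_zero hQ h5 ha])
  rw [h1, el_mul hQ h5 ha hgu (by rw [map_neg, hau, neg_zero]), apply_el hQ h7 hb hbv]
  congr 1
  module

variable {W : Type w'} [AddCommGroup W] [Module F W] [FiniteDimensional F W] {Q' : QuadraticForm F W}
  {x y : V} (fr : Frame Q x y Q')

include fr

theorem el_mem_stab (h7 : 7 ≤ Module.finrank F V) {a v : W} (ha : Q' a = 0) (hav : polB Q' a v = 0) :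
    el Q (fr.j a) (fr.j v) ∈ stab Q x :=
  mem_stab.2 (el_fix fr.nd h7 (by rw [fr.form, ha]) (by rw [fr.bform, hav]) (fr.orth a).1 (fr.orth v).1)

theorem el_mem_clsStab (h7 : 7 ≤ Module.finrank F V) {j a v : W} (ha : Q' a = 0)
    (hav : polB Q' a v = 0) (hja : polB Q' j a = 0) (hjv : polB Q' j v = 0) :
    el Q (fr.j a) (fr.j v) ∈ clsStab fr j := by
  have h := el_mem_stab fr h7 ha hav
  refine ⟨stab_le_PS x h, ?_⟩
  rw [act_of_fix fr (mem_stab.1 h),
    el_fix fr.nd h7 (by rw [fr.form, ha]) (by rw [fr.bform, hav]) (by rw [fr.bform, hja])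
      (by rw [fr.bform, hjv]), fr.P_j]

omit fr in
theorem exists_orth_singular (hW : (polB Q').Nondegenerate) {U : Submodule F W} {b : W}
    (hb : Q' b = 0) (hbU : b ∉ U) (hperp : ∀ z ∈ U, polB Q' z b = 0) :
    ∃ c, Q' c = 0 ∧ polB Q' b c = 1 ∧ ∀ z ∈ U, polB Q' z c = 0 := by
  obtain ⟨c, hc, hcU⟩ := exists_hypPair_orth hW hb hbU hperp
  exact ⟨c, hc.right, hc.pair, hcU⟩

section odd

variable (h2 : (2 : F) ≠ 0) (h7 : 7 ≤ Module.finrank F V) (hW : 6 ≤ Module.finrank F W)

include h2 h7 hW

/-- The roots of a class stabiliser in odd characteristic. -/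
theorem roots_odd (K : Subgroup (Om Q)) {j : W} (hjq : Q' j ≠ 0)
    (hk : (Lft fr K).relIndex (clsStab fr j) ≤ 4) :
    ∀ a v : W, Q' a = 0 → polB Q' a v = 0 → polB Q' j a = 0 → polB Q' j v = 0 →
      el Q (fr.j a) (fr.j v) ∈ Lft fr K := by
  classical
  haveI : Finite V := Module.finite_of_finite F
  haveI := finite_orthGroup (Q := Q)
  have h5 : 5 ≤ Module.finrank F V := by omega
  have hnd := fr.nd'
  have hjj : polB Q' j j ≠ 0 := by
    rw [polB_self]
    exact mul_ne_zero h2 hjq
  have hj0 : j ≠ 0 := fun h => hjq (by rw [h, QuadraticMap.map_zero])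
  let S : Set (Om Q) := {g | ∃ a v : W, Q' a = 0 ∧ polB Q' a v = 0 ∧ polB Q' j a = 0 ∧
    polB Q' j v = 0 ∧ g = el Q (fr.j a) (fr.j v)}
  set R := Subgroup.closure S
  have hmem : ∀ a v : W, Q' a = 0 → polB Q' a v = 0 → polB Q' j a = 0 → polB Q' j v = 0 →
      el Q (fr.j a) (fr.j v) ∈ R := fun a v h1 h2' h3 h4 =>
    Subgroup.subset_closure ⟨a, v, h1, h2', h3, h4, rfl⟩
  have single : ∀ a b : W, Q' a = 0 → Q' b = 0 → polB Q' a b = 0 → polB Q' j a = 0 →
      polB Q' j b = 0 → el Q (fr.j a) (fr.j b) ∈ ⁅R, R⁆ := by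
    intro a b ha hb hab hja hjb
    obtain ⟨u, hu, v, hv, huv⟩ : ∃ u ∈ (polB Q').orthogonal (Submodule.span F {a, b, j}),
        ∃ v ∈ (polB Q').orthogonal (Submodule.span F {a, b, j}), polB Q' u v ≠ 0 := by
      by_contra hcon
      push Not at hcon
      set U := (polB Q').orthogonal (Submodule.span F {a, b, j})
      have hle : U ≤ Submodule.span F {a, b} := by
        intro z hz
        have hz' : z ∈ (polB Q').orthogonal U := fun w hw => hcon w hw z hz
        rw [LinearMap.BilinForm.orthogonal_orthogonal hnd (polB_isRefl Q')] at hz'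
        obtain ⟨p, z', hz'2, rfl⟩ := Submodule.mem_span_insert.1 hz'
        obtain ⟨r, s, rfl⟩ := Submodule.mem_span_pair.1 hz'2
        have h := hz j (Submodule.subset_span (by simp))
        rw [map_add, map_smul, map_add, map_smul, map_smul, hja, hjb] at h
        simp only [smul_eq_mul, mul_zero, zero_add] at h
        rw [(mul_eq_zero.1 h).resolve_right hjj, zero_smul, add_zero]
        exact add_mem (Submodule.smul_mem _ _ (Submodule.subset_span (by simp)))
          (Submodule.smul_mem _ _ (Submodule.subset_span (by simp)))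
      have h1 := Submodule.finrank_mono hle
      have h3 : Module.finrank F U + Module.finrank F (Submodule.span F ({a, b, j} : Set W)) =
          Module.finrank F W := finrank_orth_add hnd _
      have h4 : Module.finrank F (Submodule.span F ({a, b, j} : Set W)) ≤ 3 :=
        le_trans (finrank_span_le_card _) (by
          rw [Set.toFinset_card, ← Nat.card_eq_fintype_card, Nat.card_coe_set_eq]
          exact (Set.ncard_insert_le _ _).trans (Nat.succ_le_succ
            ((Set.ncard_insert_le _ _).trans (by rw [Set.ncard_singleton]))))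
      have h6 : Module.finrank F (Submodule.span F ({a, b} : Set W)) ≤ 2 := by
        rw [← Matrix.range_cons_cons_empty a b ![]]
        exact (finrank_range_le_card (R := F) ![a, b]).trans (by simp)
      omega
    set s := -(polB Q' u v)⁻¹
    have hua : polB Q' a (s • u) = 0 := by rw [map_smul, hu a (Submodule.subset_span (by simp)), smul_zero]
    have hju : polB Q' j (s • u) = 0 := by rw [map_smul, hu j (Submodule.subset_span (by simp)), smul_zero]
    have hub : polB Q' (s • u) b = 0 := by
      rw [polB_comm, map_smul, hu b (Submodule.subset_span (by simp)), smul_zero]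
    have hav := hv a (Submodule.subset_span (by simp))
    have hbv := hv b (Submodule.subset_span (by simp))
    have hjv := hv j (Submodule.subset_span (by simp))
    have e := comm_el fr.nd h7 (a := fr.j a) (b := fr.j b) (u := fr.j (s • u)) (v := fr.j v)
      (by rw [fr.form, ha]) (by rw [fr.form, hb]) (by rw [fr.bform, hua]) (by rw [fr.bform, hbv])
      (by rw [fr.bform, hab]) (by rw [fr.bform, hav])
    have hsv : polB Q' (s • u) v = -1 := by
      rw [map_smul, LinearMap.smul_apply, smul_eq_mul, neg_mul, inv_mul_cancel₀ huv]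
    rw [fr.bform, hub, fr.bform, hsv, zero_smul, mul_zero, add_zero, zero_sub, neg_one_smul,
      neg_neg] at e
    rw [← e]
    exact Subgroup.commutator_mem_commutator (hmem b v hb hbv hjb hjv) (hmem a _ ha hua hja hju)
  have hcl : ∀ g ∈ S, g ∈ ⁅R, R⁆ := by
    rintro _ ⟨a, v, ha, hav, hja, hjv, rfl⟩
    set X := (polB Q').orthogonal (Submodule.span F {a, j})
    have hX := finrank_orth_pair hnd a j
    change Module.finrank F W ≤ Module.finrank F X + 2 at hX
    by_cases ha0 : a = 0
    · subst ha0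
      have : el Q (fr.j (0 : W)) (fr.j v) = 1 := Subtype.ext (orth_ext fun z => by
        rw [coe_el fr.nd h5 (by rw [map_zero, QuadraticMap.map_zero]) (by simp),
          eichler_apply (by rw [map_zero, QuadraticMap.map_zero]) (by simp)]
        simp [orth_one_apply])
      rw [this]
      exact one_mem _
    obtain ⟨a', ha', haa', hja'⟩ := exists_orth_singular hnd (U := F ∙ j) ha
      (not_mem_span_of_qmap hjq ha ha0) (fun z hz => by
        obtain ⟨r, rfl⟩ := Submodule.mem_span_singleton.1 hz
        rw [map_smul, LinearMap.smul_apply, hja, smul_zero])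
    obtain ⟨b, hbX, hb0, hb⟩ := exists_singular_in (Q := Q')
      ((polB Q').orthogonal (Submodule.span F {a', j}) ⊓ (polB Q').orthogonal (F ∙ a)) (by
      have h1 := Submodule.finrank_sup_add_finrank_inf_eq
        ((polB Q').orthogonal (Submodule.span F {a', j})) ((polB Q').orthogonal (F ∙ a))
      have h2' := finrank_orth_pair hnd a' j
      have h3 := finrank_orth_singleton hnd ha0
      have h4 := Submodule.finrank_le ((polB Q').orthogonal (Submodule.span F {a', j}) ⊔
        (polB Q').orthogonal (F ∙ a))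
      omega)
    obtain ⟨hb1, hb2⟩ := hbX
    obtain ⟨ha'b, hjb⟩ := mem_orth_pair.1 hb1
    have hab := mem_orth_singleton.1 hb2
    have hbn : b ∉ Submodule.span F {a, j} := fun h => by
      obtain ⟨p, r, hpr⟩ := Submodule.mem_span_pair.1 h
      have h1 := ha'b
      rw [← hpr, map_add, map_smul, map_smul, polB_comm a' a, haa', polB_comm a' j,
        hja' j (Submodule.mem_span_singleton_self j), smul_eq_mul, mul_one, smul_zero, add_zero] at h1
      rw [h1, zero_smul, zero_add] at hpr
      have h3 := hjb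
      rw [← hpr, map_smul, smul_eq_mul] at h3
      exact hb0 (by rw [← hpr, (mul_eq_zero.1 h3).resolve_right hjj, zero_smul])
    obtain ⟨y₀, hy₀, hby⟩ := exists_orth_polB_eq hnd hbn 1
    have hspan : v ∈ Submodule.span F {z : W | z ∈ X ∧ Q' z = 0} :=
      mem_span_singular (z₀ := b) (y₀ := y₀) (mem_orth_pair.2 ⟨hab, hjb⟩) hb (fun z hz => hy₀ z hz)
        (by rw [hby]; exact one_ne_zero) (mem_orth_pair.2 ⟨hav, hjv⟩)
    suffices ∀ w ∈ Submodule.span F {z : W | z ∈ X ∧ Q' z = 0},
        polB Q' a w = 0 ∧ ∀ t : F, el Q (fr.j a) (fr.j (t • w)) ∈ ⁅R, R⁆ by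
      simpa using (this v hspan).2 1
    intro w hw
    have hja0 : Q (fr.j a) = 0 := by rw [fr.form, ha]
    induction hw using Submodule.span_induction with
    | mem z hz =>
      obtain ⟨h1, h3⟩ := mem_orth_pair.1 hz.1
      exact ⟨h1, fun t => single a _ ha (by rw [qmap_smul, hz.2, mul_zero])
        (by rw [map_smul, h1, smul_zero]) hja (by rw [map_smul, h3, smul_zero])⟩
    | zero =>
      refine ⟨map_zero _, fun t => ?_⟩
      rw [smul_zero, map_zero, el_zero fr.nd h5 hja0]
      exact one_mem _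
    | add p r _ _ hp hr =>
      refine ⟨by rw [map_add, hp.1, hr.1, add_zero], fun t => ?_⟩
      rw [smul_add, map_add, ← el_mul fr.nd h5 hja0 (by rw [fr.bform, map_smul, hp.1, smul_zero])
        (by rw [fr.bform, map_smul, hr.1, smul_zero])]
      exact mul_mem (hp.2 t) (hr.2 t)
    | smul c p _ hp =>
      exact ⟨by rw [map_smul, hp.1, smul_zero], fun t => by rw [smul_smul]; exact hp.2 _⟩
  intro a v ha hav hja hjv
  refine le_of_comm_closed S hcl ?_ hk (hmem a v ha hav hja hjv)
  rintro _ ⟨a, v, h1, h2', h3, h4, rfl⟩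
  exact el_mem_clsStab fr h7 h1 h2' h3 h4

end odd

section two

variable (h2 : (2 : F) = 0) (h7 : 7 ≤ Module.finrank F V)

include h2 h7

/-- The roots of a class stabiliser in characteristic two. -/
theorem roots_two (hF : Nat.card F = 2) (K : Subgroup (Om Q)) {j : W} (hjq : Q' j ≠ 0)
    (hk : (Lft fr K).relIndex (clsStab fr j) ≤ 4) :
    ∀ a b : W, Q' a = 0 → Q' b = 0 → polB Q' a b = 0 → polB Q' j a = 0 → polB Q' j b = 0 →
      a ≠ 0 → b ∉ F ∙ a → el Q (fr.j a) (fr.j (j + b)) ∈ Lft fr K := by
  classical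
  haveI : Finite V := Module.finite_of_finite F
  haveI := finite_orthGroup (Q := Q)
  have h5 : 5 ≤ Module.finrank F V := by omega
  have hnd := fr.nd'
  have hjj : polB Q' j j = 0 := by rw [polB_self, h2, zero_mul]
  have hqj : Q' j = 1 := by
    rcases Fintype.ofFinite F with ⟨⟩
    haveI := Fintype.ofFinite F
    have hc : ({0, 1} : Finset F) = Finset.univ := Finset.eq_univ_of_card _ (by
      rw [Finset.card_pair zero_ne_one, ← Nat.card_eq_fintype_card, hF])
    have := Finset.mem_univ (Q' j)
    rw [← hc] at this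
    simpa [hjq] using this
  let S : Set (Om Q) := {g | ∃ a b : W, Q' a = 0 ∧ Q' b = 0 ∧ polB Q' a b = 0 ∧ polB Q' j a = 0 ∧
    polB Q' j b = 0 ∧ a ≠ 0 ∧ b ∉ F ∙ a ∧ g = el Q (fr.j a) (fr.j (j + b))}
  set R := Subgroup.closure S
  have hcl : ∀ g ∈ S, g ∈ ⁅R, R⁆ := by
    rintro _ ⟨a, b, ha, hb, hab, hja, hjb, ha0, hba, rfl⟩
    have hbn : b ∉ Submodule.span F {a, j} := fun h => by
      obtain ⟨p, r, hpr⟩ := Submodule.mem_span_pair.1 h
      have h1 := hb
      rw [← hpr, qmap_add, qmap_smul, qmap_smul, ha, map_smul, map_smul, LinearMap.smul_apply,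
        polB_comm a j, hja, hqj] at h1
      simp only [mul_zero, smul_zero, zero_add, add_zero, mul_one, mul_self_eq_zero] at h1
      exact hba (Submodule.mem_span_singleton.2 ⟨p, by rw [← hpr, h1, zero_smul, add_zero]⟩)
    obtain ⟨c, hc, hbc, hcU⟩ := exists_orth_singular hnd hb hbn (fun z hz => by
      obtain ⟨p, r, rfl⟩ := Submodule.mem_span_pair.1 hz
      simp [hab, hjb])
    have hac := hcU a (Submodule.subset_span (by simp))
    have hjc := hcU j (Submodule.subset_span (by simp))
    have hb0 : b ≠ 0 := fun h => hba (by rw [h]; exact Submodule.zero_mem _)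
    have hab' : a ∉ F ∙ b := fun h => by
      obtain ⟨r, hr⟩ := Submodule.mem_span_singleton.1 h
      rcases eq_or_ne r 0 with rfl | hr0
      · exact ha0 (by rw [← hr, zero_smul])
      · exact hba (Submodule.mem_span_singleton.2 ⟨r⁻¹, by rw [← hr, smul_smul, inv_mul_cancel₀ hr0, one_smul]⟩)
    have hca : c ∉ F ∙ a := fun h => by
      obtain ⟨r, hr⟩ := Submodule.mem_span_singleton.1 h
      rw [← hr, map_smul, polB_comm b a, hab, smul_zero] at hbc
      exact zero_ne_one hbc
    have hba' : polB Q' b a = 0 := by rw [polB_comm]; exact hab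
    have haj : polB Q' a j = 0 := by rw [polB_comm]; exact hja
    have hbj : polB Q' b j = 0 := by rw [polB_comm]; exact hjb
    have e := comm_el fr.nd h7 (a := fr.j a) (b := fr.j b) (u := fr.j (j + c)) (v := fr.j (j + a))
      (by rw [fr.form, ha]) (by rw [fr.form, hb]) (by rw [fr.bform, map_add, haj, hac, add_zero])
      (by rw [fr.bform, map_add, hbj, hba', add_zero]) (by rw [fr.bform, hab])
      (by rw [fr.bform, map_add, haj, polB_self, ha, mul_zero, add_zero])
    have e1 : polB Q (fr.j (j + c)) (fr.j b) = 1 := by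
      rw [fr.bform, map_add, LinearMap.add_apply, hjb, zero_add, polB_comm, hbc]
    have e2 : polB Q (fr.j (j + c)) (fr.j (j + a)) = 0 := by
      rw [fr.bform]
      simp [hjj, hja, polB_comm c j, hjc, polB_comm c a, hac]
    have e3 : Q (fr.j (j + a)) = 1 := by rw [fr.form, qmap_add, hqj, ha, hja, add_zero, add_zero]
    rw [e1, e2, e3, zero_add, one_mul, one_smul, one_smul] at e
    have hneg : -b = b := by
      rw [neg_eq_iff_add_eq_zero, ← two_smul F b, h2, zero_smul]
    have e4 : fr.j (j + a) - fr.j b = fr.j (j + b) + (1 : F) • fr.j a := by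
      rw [one_smul, ← map_sub, ← map_add, sub_eq_add_neg, hneg]
      congr 1
      abel
    rw [e4] at e
    have e5 : el Q (fr.j a) (fr.j (j + b) + (1 : F) • fr.j a) = el Q (fr.j a) (fr.j (j + b)) := by
      have hp : polB Q (fr.j a) (fr.j (j + b)) = 0 := by rw [fr.bform, map_add, haj, hab, add_zero]
      have hqa : Q (fr.j a) = 0 := by rw [fr.form, ha]
      apply Subtype.ext
      rw [coe_el fr.nd h5 hqa (by rw [map_add, hp, map_smul, polB_self, hqa, mul_zero, smul_zero, add_zero]),
        coe_el fr.nd h5 hqa hp, eichler_add_smul hqa hp]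
    rw [e5] at e
    rw [← e]
    exact Subgroup.commutator_mem_commutator
      (Subgroup.subset_closure ⟨b, a, hb, ha, hba', hjb, hja, hb0, hab', rfl⟩)
      (Subgroup.subset_closure ⟨a, c, ha, hc, hac, hja, hjc, ha0, hca, rfl⟩)
  intro a b ha hb hab hja hjb ha0 hba
  refine le_of_comm_closed S hcl ?_ hk
    (Subgroup.subset_closure ⟨a, b, ha, hb, hab, hja, hjb, ha0, hba, rfl⟩)
  rintro _ ⟨a, b, h1, h3, h4, h6, h8, -, -, rfl⟩
  refine el_mem_clsStab fr h7 h1 ?_ h6 (by rw [map_add, hjj, h8, add_zero])
  rw [map_add, polB_comm a j, h6, h4, add_zero]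

end two

end H48.OrSmall
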