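import Cfsg.Agent.H48.OrSmall.Lifts

/-!
# A lift which is a short root element
-/

set_option autoImplicit false
set_option linter.unusedSectionVars false

namespace H48.OrSmall

open H43 H50.Or H48.OrIdx

universe u w w'

variable {F : Type u} [Field F] [Finite F] {V : Type w} [AddCommGroup V] [Module F V]
  [FiniteDimensional F V] {Q : QuadraticForm F V}
  {W : Type w'} [AddCommGroup W] [Module F W] [FiniteDimensional F W] {Q' : QuadraticForm F W}
  {x y : V} (fr : Frame Q x y Q') (K : Subgroup (Om Q))

omit [FiniteDimensional F V] in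
/-- Zeros and one more value span a non-degenerate space. -/
theorem exists_spanning_value (hF : Nat.card F ≤ 3) {Z : Type w'} [AddCommGroup Z] [Module F Z]
    [FiniteDimensional F Z] {R : QuadraticForm F Z} (hR : (polB R).Nondegenerate)
    (h1 : 1 ≤ Module.finrank F Z) :
    ∃ κ : F, κ ≠ 0 ∧ Submodule.span F {e : Z | R e = κ ∨ R e = 0} = ⊤ := by
  by_cases hs : ∃ z₀ : Z, z₀ ≠ 0 ∧ R z₀ = 0
  · obtain ⟨z₀, h0, hz⟩ := hs
    refine ⟨1, one_ne_zero, eq_top_iff.2 fun e _ => ?_⟩
    exact Submodule.span_mono (fun v hv => Or.inr hv) (mem_span_all_singular hR h0 hz e)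
  push Not at hs
  have : Nontrivial Z := Module.nontrivial_of_finrank_pos (R := F) (by omega)
  obtain ⟨v₀, hv₀⟩ := exists_ne (0 : Z)
  have hκ : R v₀ ≠ 0 := hs v₀ hv₀
  refine ⟨R v₀, hκ, eq_top_iff.2 fun e _ => ?_⟩
  have hscale : ∀ c : F, c ≠ 0 → c * c = 1 := by
    intro c hc
    rcases (show Nat.card F = 2 ∨ Nat.card F = 3 by have := two_le_q (F := F); omega) with h | h
    · rw [eq_one_of_card_two h hc, one_mul]
    · rcases eq_of_card_three h c with rfl | rfl | rfl
      · exact absurd rfl hc
      · rw [one_mul]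
      · rw [neg_mul_neg, one_mul]
  by_cases hz : e = 0
  · rw [hz]; exact Submodule.zero_mem _
  by_cases he : R e = R v₀
  · exact Submodule.subset_span (Or.inl he)
  -- the other value is the opposite one
  have he' : R e = -R v₀ ∧ (2 : F) ≠ 0 := by
    rcases (show Nat.card F = 2 ∨ Nat.card F = 3 by have := two_le_q (F := F); omega) with h | h
    · exact absurd ((eq_one_of_card_two h (hs e hz)).trans (eq_one_of_card_two h hκ).symm) he
    · have h2 : (2 : F) ≠ 0 := fun h2 => by
        haveI := Fintype.ofFinite F
        have := FiniteField.even_card_of_char_two (F := F)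
          (CharP.ringChar_of_prime_eq_zero Nat.prime_two (by exact_mod_cast h2))
        rw [← Nat.card_eq_fintype_card, h] at this
        omega
      refine ⟨?_, h2⟩
      rcases eq_of_card_three h (R e) with h' | h' | h' <;>
        rcases eq_of_card_three h (R v₀) with k' | k' | k'
      all_goals first
        | exact absurd h' (hs e hz)
        | exact absurd k' hκ
        | exact absurd (h'.trans k'.symm) he
        | simp [h', k']
  obtain ⟨he', h2⟩ := he'
  set β := polB R v₀ e
  have hplus : R (e + v₀) = β := by rw [qmap_add, he', polB_comm e v₀]; ring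
  have hminus : R (e - v₀) = -β := by
    rw [sub_eq_add_neg, qmap_add, qmap_neg, he', map_neg, polB_comm e v₀]; ring
  have hne : e + v₀ ≠ 0 := fun h => he (by rw [eq_neg_of_add_eq_zero_left h, qmap_neg])
  have hκ3 : β = R v₀ ∨ β = -R v₀ := by
    rcases (show Nat.card F = 2 ∨ Nat.card F = 3 by have := two_le_q (F := F); omega) with h | h
    · exact absurd (two_eq_zero_of_card_two h) h2
    · have hb : β ≠ 0 := hplus ▸ hs _ hne
      rcases eq_of_card_three h β with h' | h' | h' <;>
        rcases eq_of_card_three h (R v₀) with k' | k' | k'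
      all_goals first
        | exact absurd h' hb
        | exact absurd k' hκ
        | (left; exact h'.trans k'.symm)
        | (right; simp [h', k'])
  rcases hκ3 with h | h
  · rw [← add_sub_cancel_right e v₀]
    exact sub_mem (Submodule.subset_span (Or.inl (by rw [hplus, h])))
      (Submodule.subset_span (Or.inl rfl))
  · rw [← sub_add_cancel e v₀]
    exact add_mem (Submodule.subset_span (Or.inl (by rw [hminus, h, neg_neg])))
      (Submodule.subset_span (Or.inl rfl))

variable (h7 : 7 ≤ Module.finrank F V) (hI : Iw fr K = ⊥) (hst : stab Q x ≤ Lft fr K)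
  (hW : 5 ≤ Module.finrank F W) (hF : Nat.card F ≤ 3)

include h7 hI hst hW hF

/-- Some lift is a short root element. -/
theorem short_lift :
    ∃ a v : W, a ≠ 0 ∧ Q' a = 0 ∧ polB Q' a v = 0 ∧ Q' v ≠ 0 ∧
      ∃ s t : F, cw fr K (gr fr a v) = s • v + t • a := by
  classical
  have hnd := fr.nd'
  obtain ⟨b, hb0, hb⟩ := exists_singular Q' (by omega)
  obtain ⟨b', hpb⟩ := exists_hypPair hnd hb hb0
  obtain ⟨f2⟩ := exists_frame hnd hpb
  set W2 := (polB Q').orthogonal (Submodule.span F {b, b'})
  have hd2 := f2.finrank_eq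
  obtain ⟨a2, ha20, ha2⟩ := exists_singular (Q'.restrict W2) (by omega)
  obtain ⟨c2, hpa⟩ := exists_hypPair f2.nd' ha2 ha20
  obtain ⟨f3⟩ := exists_frame f2.nd' hpa
  have hd3 := f3.finrank_eq
  set a := f2.j a2
  have ha : Q' a = 0 := by rw [f2.form]; exact ha2
  have ha0 : a ≠ 0 := fun h => ha20 (f2.inj (h.trans (map_zero _).symm))
  have hba : polB Q' b a = 0 := (f2.orth a2).1
  have hb'a : polB Q' b' a = 0 := (f2.orth a2).2
  have hab : polB Q' a b = 0 := (f2.orth' a2).1
  have hab' : polB Q' a b' = 0 := (f2.orth' a2).2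
  have hbb' := hpb.pair
  have hb'b : polB Q' b' b = 1 := hpb.symm.pair
  have hb' := hpb.right
  have hb'0 := hpb.symm.left_ne_zero
  obtain ⟨κ, hκ, hspan⟩ := exists_spanning_value hF f3.nd' (by omega)
  set v := b + (-κ) • b'
  have hqv : Q' v = -κ := by
    rw [show v = b + (-κ) • b' from rfl, qmap_add_smul, hb, hb', hbb']
    ring
  have hav : polB Q' a v = 0 := by simp [v, hab, hab']
  set s := polB Q' (cw fr K (gr fr a b)) b'
  -- the relations at one vector
  have rel : ∀ e, polB Q' a e = 0 → polB Q' b e = 0 → polB Q' b' e = 0 →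
      (Q' e = κ ∨ Q' e = 0) → polB Q' (cw fr K (gr fr a v)) e = 0 := by
    intro e hae hbe hb'e hval
    have heb : polB Q' e b = 0 := by rw [polB_comm]; exact hbe
    have heb' : polB Q' e b' = 0 := by rw [polB_comm]; exact hb'e
    have hsa := cw_self_adj fr K h7 hI hst hW ha0 ha (v := b) (v' := e) hab hae
    have hsa' := cw_self_adj fr K h7 hI hst hW ha0 ha (v := b') (v' := e) hab' hae
    have hh := cw_perp_right fr K h7 hI hst hW hF ha0 hb0 ha hb hab
    have hh' := cw_perp_right fr K h7 hI hst hW hF ha0 hb'0 ha hb' hab'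
    have r1 := commutator_rel fr K h7 hI hst hW hF (z := b) ha0 hb0 ha hb hb' hab hab' hbb' hae hbe hb'e hab
    have r2 := commutator_rel fr K h7 hI hst hW hF (z := b') ha0 hb0 ha hb hb' hab hab' hbb' hae hbe hb'e hab'
    rw [hsa, hh, polB_self b, hb, hb'b, heb] at r1
    rw [hsa', hbb', polB_self b', hb', heb'] at r2
    rw [show v = b + (-κ) • b' from rfl, B_cw_add fr K h7 hI hst hW ha0 ha hab
      (by rw [map_smul, hab', smul_zero]) hae, B_cw_smul fr K h7 hI hst hW hF ha0 ha hab' hae]
    set n := polB Q' (cw fr K (gr fr a b)) e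
    set n' := polB Q' (cw fr K (gr fr a b')) e
    set m := polB Q' (cw fr K (gr fr b e)) a
    have hn : n = -m := by linear_combination r1
    have h2n : 2 * n' = Q' e * m := by linear_combination r2
    rcases (show Nat.card F = 2 ∨ Nat.card F = 3 by have := two_le_q (F := F); omega) with h | h
    · have h2 := two_eq_zero_of_card_two h
      rw [eq_one_of_card_two h hκ]
      rcases hval with hQ | hQ
      · rw [hQ, eq_one_of_card_two h hκ, h2, zero_mul, one_mul] at h2n
        -- the companion relation
        have r1' := commutator_rel fr K h7 hI hst hW hF (z := b) (b := b') (b' := b) ha0 hb'0 ha hb' hb hab'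
          hab hb'b hae hb'e hbe hab
        have hsb := cw_self_adj fr K h7 hI hst hW ha0 ha (v := b) (v' := b') hab hab'
        set m' := polB Q' (cw fr K (gr fr b' e)) a
        have r2' := commutator_rel fr K h7 hI hst hW hF (z := b') (b := b') (b' := b) ha0 hb'0 ha hb' hb hab'
          hab hb'b hae hb'e hbe hab'
        rw [hsa, hb'b, polB_self b, hb, heb] at r1'
        rw [hsa', hh', polB_self b', hb', hbb', heb'] at r2'
        have hn' : n' = -m' := by linear_combination r2'
        have h2n' : 2 * n = Q' e * m' := by linear_combination r1'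
        rw [hQ, eq_one_of_card_two h hκ, h2, zero_mul, one_mul] at h2n'
        rw [hn, hn', ← h2n, ← h2n']
        ring
      · have hsum : ∀ p : F, p + p = 0 := fun p => by linear_combination p * h2
        obtain ⟨e₁, he₁a, he₁b, he₁b', he₁q⟩ : ∃ e₁, polB Q' a e₁ = 0 ∧ polB Q' b e₁ = 0 ∧
            polB Q' b' e₁ = 0 ∧ Q' e₁ = 1 := by
          obtain ⟨z, hz⟩ : ∃ z, (Q'.restrict W2).restrict
              ((polB (Q'.restrict W2)).orthogonal (Submodule.span F {a2, c2})) z ≠ 0 := by
            by_contra hcon
            push Not at hcon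
            have := two_mul_finrank_singular_le f3.nd' ⊤ fun z _ => hcon z
            rw [finrank_top] at this
            omega
          exact ⟨f2.j (f3.j z), by rw [f2.bform]; exact (f3.orth z).1, (f2.orth _).1, (f2.orth _).2, by
            rw [f2.form, f3.form]; exact eq_one_of_card_two h hz⟩
        have he₁b₀ : polB Q' e₁ b = 0 := by rw [polB_comm]; exact he₁b
        have he₁b'₀ : polB Q' e₁ b' = 0 := by rw [polB_comm]; exact he₁b'
        have r3 := commutator_rel fr K h7 hI hst hW hF (z := e) ha0 hb0 ha hb hb' hab hab' hbb'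
          he₁a he₁b he₁b' hae
        have r4 := commutator_rel fr K h7 hI hst hW hF (z := e) (b := b') (b' := b) ha0 hb'0 ha hb' hb hab'
          hab hb'b he₁a he₁b' he₁b hae
        have r5 := commutator_rel fr K h7 hI hst hW hF (z := b) ha0 hb0 ha hb hb' hab hab' hbb'
          he₁a he₁b he₁b' hab
        have r6 := commutator_rel fr K h7 hI hst hW hF (z := b') (b := b') (b' := b) ha0 hb'0 ha hb' hb hab'
          hab hb'b he₁a he₁b' he₁b hab'
        have r7 := commutator_rel fr K h7 hI hst hW hF (z := b') ha0 hb0 ha hb hb' hab hab' hbb'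
          he₁a he₁b he₁b' hab'
        have r8 := commutator_rel fr K h7 hI hst hW hF (z := b) (b := b') (b' := b) ha0 hb'0 ha hb' hb hab'
          hab hb'b he₁a he₁b' he₁b hab
        rw [cw_self_adj fr K h7 hI hst hW ha0 ha (v := b) (v' := e₁) hab he₁a, hh, polB_self b, hb, hb'b,
          he₁b₀, he₁q] at r5
        rw [cw_self_adj fr K h7 hI hst hW ha0 ha (v := b') (v' := e₁) hab' he₁a, hh', polB_self b', hb',
          hbb', he₁b'₀, he₁q] at r6
        rw [cw_self_adj fr K h7 hI hst hW ha0 ha (v := b') (v' := e₁) hab' he₁a, hbb', polB_self b', hb',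
          he₁b'₀, he₁q] at r7
        rw [cw_self_adj fr K h7 hI hst hW ha0 ha (v := b) (v' := e₁) hab he₁a, hb'b, polB_self b, hb,
          he₁b₀, he₁q] at r8
        rw [hbe, hb'e, he₁q] at r3 r4
        rw [cw_self_adj fr K h7 hI hst hW ha0 ha (v := b) (v' := b') hab hab'] at r4
        have hm : polB Q' (cw fr K (gr fr b e₁)) a = 0 := by linear_combination -r7 + hsum (polB Q' (cw fr K (gr fr a b')) e₁)
        have hm' : polB Q' (cw fr K (gr fr b' e₁)) a = 0 := by linear_combination -r8 + hsum (polB Q' (cw fr K (gr fr a b)) e₁)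
        rw [hm] at r3
        rw [hm'] at r4
        linear_combination r4 - r3
    · rcases hval with hQ | hQ
      · rw [hQ] at h2n
        have h3 : (3 : F) = 0 := by
          haveI := Fintype.ofFinite F
          have := FiniteField.cast_card_eq_zero F
          rw [← Nat.card_eq_fintype_card, h] at this
          exact_mod_cast this
        have hkk : κ * κ = 1 := by
          rcases eq_of_card_three h κ with h' | h' | h'
          · exact absurd h' hκ
          · rw [h', one_mul]
          · rw [h', neg_mul_neg, one_mul]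
        linear_combination hn + κ * h2n - κ * n' * h3 + m * hkk
      · have h2 : (2 : F) ≠ 0 := fun h2 => by
          haveI := Fintype.ofFinite F
          have := FiniteField.even_card_of_char_two (F := F)
            (CharP.ringChar_of_prime_eq_zero Nat.prime_two (by exact_mod_cast h2))
          rw [← Nat.card_eq_fintype_card, h] at this
          omega
        rw [hQ, zero_mul] at h2n
        have r1' := commutator_rel fr K h7 hI hst hW hF (z := b) (b := b') (b' := b) ha0 hb'0 ha hb' hb hab'
          hab hb'b hae hb'e hbe hab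
        rw [hsa, hb'b, polB_self b, hb, heb, hQ] at r1'
        have h2n' : 2 * n = 0 := by linear_combination r1'
        have e1 := (mul_eq_zero.1 h2n).resolve_left h2
        have e2 := (mul_eq_zero.1 h2n').resolve_left h2
        rw [e1, e2]
        ring
  -- the rest of the orthogonal space
  refine ⟨a, v, ha0, ha, hav, by rw [hqv]; exact neg_ne_zero.2 hκ, s, ?_⟩
  set w := cw fr K (gr fr a v)
  have hwb : polB Q' w b = -κ * s := by
    rw [show w = cw fr K (gr fr a (b + (-κ) • b')) from rfl, B_cw_add fr K h7 hI hst hW ha0 ha hab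
      (by rw [map_smul, hab', smul_zero]) hab, B_cw_smul fr K h7 hI hst hW hF ha0 ha hab' hab,
      cw_perp_right fr K h7 hI hst hW hF ha0 hb0 ha hb hab,
      cw_self_adj fr K h7 hI hst hW ha0 ha (v := b) (v' := b') hab hab']
    simp [s]
  have hwb' : polB Q' w b' = s := by
    rw [show w = cw fr K (gr fr a (b + (-κ) • b')) from rfl, B_cw_add fr K h7 hI hst hW ha0 ha hab
      (by rw [map_smul, hab', smul_zero]) hab', B_cw_smul fr K h7 hI hst hW hF ha0 ha hab' hab',
      cw_perp_right fr K h7 hI hst hW hF ha0 hb'0 ha hb' hab']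
    simp [s]
  have hwa := cw_perp fr K h7 hI hst hW ha0 ha hav
  have hz : ∀ z, polB Q' a z = 0 → polB Q' (w - s • v) z = 0 := by
    intro z haz
    have hd := f2.decomp z
    rw [hd]
    have haP : polB (Q'.restrict W2) a2 (f2.P z) = 0 := by
      rw [polB_comm, ← f2.b_P, polB_comm]; exact haz
    have hd' := f3.decomp (f2.P z)
    rw [polB_comm (f2.P z) a2, haP, zero_smul, add_zero] at hd'
    have hrest : ∀ u, polB Q' (w - s • v) (f2.j (f3.j u)) = 0 := by
      intro u
      have hu : u ∈ Submodule.span F {e | (Q'.restrict W2).restrict _ e = κ ∨ (Q'.restrict W2).restrict _ e = 0} := by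
        rw [hspan]; trivial
      induction hu using Submodule.span_induction with
      | mem e he =>
        have h1 : polB Q' a (f2.j (f3.j e)) = 0 := by rw [f2.bform]; exact (f3.orth e).1
        have h2 : polB Q' b (f2.j (f3.j e)) = 0 := (f2.orth _).1
        have h3 : polB Q' b' (f2.j (f3.j e)) = 0 := (f2.orth _).2
        have hq : Q' (f2.j (f3.j e)) = κ ∨ Q' (f2.j (f3.j e)) = 0 := by
          rw [f2.form, f3.form]; exact he
        rw [map_sub, LinearMap.sub_apply, rel _ h1 h2 h3 hq]
        simp [v, h2, h3]
      | zero => simp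
      | add p r _ _ hp hr => simp only [map_add, hp, hr, add_zero]
      | smul c p _ hp => simp only [map_smul, hp, smul_zero]
    have hva : polB Q' v a = 0 := by rw [polB_comm]; exact hav
    rw [hd', map_add, map_add, map_add, map_smul, map_add (polB Q' (w - s • v)), map_smul, map_smul,
      map_smul, hrest]
    rw [show f2.j a2 = a from rfl]
    simp [hwb, hwb', hwa, hva, v, hbb', hb'b, polB_self, hb, hb', hba, hb'a]
    rw [show polB Q' w a = 0 from hwa]
    ring
  have hmem : w - s • v ∈ F ∙ a := by
    rw [← LinearMap.BilinForm.orthogonal_orthogonal hnd (polB_isRefl Q') (F ∙ a)]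
    intro z hz'
    rw [polB_comm]
    exact hz z (mem_orth_singleton.1 hz')
  obtain ⟨t, ht⟩ := Submodule.mem_span_singleton.1 hmem
  exact ⟨t, by rw [ht, add_sub_cancel]⟩

end H48.OrSmall
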