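import Cfsg.Agent.H48.OrSmall.Main
import Cfsg.Agent.H48.OrIdx.Counts

/-!
# The index statements for the fields with two and three elements
-/

set_option autoImplicit false
set_option linter.unusedSectionVars false

namespace H48.OrSmall

open H43 H50.Or H48.OrIdx

universe u w

variable {F : Type u} [Field F] [Finite F] {V : Type w} [AddCommGroup V] [Module F V]
  [FiniteDimensional F V] {Q : QuadraticForm F V}

/-- The stabiliser of a non-singular point. -/
theorem index_PS_nonsing (hQ : (polB Q).Nondegenerate) (h5 : 5 ≤ Module.finrank F V) {z : V}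
    (hz : Q z ≠ 0) :
    (PS Q z).index * Nat.card {c : F // c * c = 1} = level Q (Q z) := by
  classical
  haveI : Finite V := Module.finite_of_finite F
  haveI := finite_orthGroup (Q := Q)
  have hz0 : z ≠ 0 := fun e => hz (by rw [e, QuadraticMap.map_zero])
  refine le_antisymm ?_ (index_of_stab_nonsing hQ h5 hz fun g hg => hg)
  have key : ∀ L : Subgroup (Om Q), stab Q z ≤ L →
      Nat.card L = Nat.card ((fun g : Om Q => g.1.1 z) '' (L : Set (Om Q))) * Nat.card (stab Q z) :=
    fun L hL => H48.card_eq_image_mul_stab L (stab Q z) (fun g => g.1.1 z) hL fun g hg k hk => by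
      rw [mem_stab]
      refine ⟨fun e => ?_, fun e => ?_⟩
      · show (g.1⁻¹ * k.1).1 z = z
        rw [orth_mul_apply, ← e, orth_inv_apply_self]
      · have e' := congrArg g.1.1 e
        show g.1.1 z = k.1.1 z
        rw [← e']
        show g.1.1 ((g.1⁻¹ * k.1).1 z) = k.1.1 z
        rw [orth_mul_apply, orth_apply_inv_self]
  have h1 := key ⊤ le_top
  rw [Subgroup.card_top] at h1
  have h2 := key (PS Q z) (stab_le_PS z)
  have hG : Nat.card ((fun g : Om Q => g.1.1 z) '' ((⊤ : Subgroup (Om Q)) : Set (Om Q))) ≤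
      level Q (Q z) := by
    refine Nat.card_le_card_of_injective (fun v => (⟨v.1, ?_⟩ : {v : V // Q v = Q z})) fun a b e =>
      Subtype.ext (congrArg Subtype.val e :)
    obtain ⟨g, -, hg⟩ := v.2
    rw [← hg]
    exact orth_qmap g.1 z
  have hP : Nat.card {c : F // c * c = 1} ≤
      Nat.card ((fun g : Om Q => g.1.1 z) '' (PS Q z : Set (Om Q))) := by
    refine Nat.card_le_card_of_injective (fun c => ⟨c.1 • z, ?_⟩) fun a b e =>
      Subtype.ext (smul_left_injective F hz0 (congrArg Subtype.val e))
    obtain ⟨g, hg, hgv⟩ := eichler_transitive hQ h5 hz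
      (show Q (c.1 • z) = Q z by rw [qmap_smul, c.2, one_mul])
    exact ⟨⟨g, by rw [commutator_eq_eichlerSub hQ h5]; exact hg⟩,
      (by show g.1 z ∈ F ∙ z; rw [hgv]; exact Submodule.smul_mem _ _ (Submodule.mem_span_singleton_self z)),
      hgv⟩
  refine Nat.le_of_mul_le_mul_right ?_ (Nat.card_pos (α := stab Q z))
  calc (PS Q z).index * Nat.card {c : F // c * c = 1} * Nat.card (stab Q z)
      = (PS Q z).index * (Nat.card {c : F // c * c = 1} * Nat.card (stab Q z)) := by ring
    _ ≤ (PS Q z).index * Nat.card (PS Q z) := by rw [h2]; gcongr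
    _ = Nat.card (Om Q) := (PS Q z).index_mul_card
    _ ≤ _ := by rw [h1]; gcongr

theorem card_sqrt_one_three (hF : Nat.card F = 3) : Nat.card {c : F // c * c = 1} = 2 := by
  classical
  refine le_antisymm card_sqrt_one_le ?_
  have h2 := two_ne_zero_of_card_three hF
  have hne : (⟨1, one_mul 1⟩ : {c : F // c * c = 1}) ≠ ⟨-1, by ring⟩ := fun e => h2 (by
    have e' : (1 : F) = -1 := congrArg Subtype.val e
    linear_combination e')
  haveI : Finite {c : F // c * c = 1} := inferInstance
  haveI := Fintype.ofFinite {c : F // c * c = 1}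
  rw [Nat.card_eq_fintype_card, ← Finset.card_pair hne]
  exact Finset.card_le_univ _

theorem card_sqrt_one_two (hF : Nat.card F = 2) : Nat.card {c : F // c * c = 1} = 1 := by
  rw [Nat.card_eq_one_iff_unique]
  refine ⟨⟨fun a b => Subtype.ext ?_⟩, ⟨⟨1, one_mul 1⟩⟩⟩
  have h : ∀ c : F, c * c = 1 → c = 1 := fun c hc =>
    eq_one_of_card_two hF fun e => one_ne_zero (α := F) (by rw [← hc, e, mul_zero])
  rw [h a.1 a.2, h b.1 b.2]

/-- The smaller level in odd dimension over three elements. -/
theorem exists_level_odd_three (hF : Nat.card F = 3) : ∀ (k : ℕ) {V : Type w} [AddCommGroup V] [Module F V]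
    [FiniteDimensional F V] {Q : QuadraticForm F V}, (polB Q).Nondegenerate →
    Module.finrank F V = 2 * k + 1 → ∃ c : F, c ≠ 0 ∧ level Q c + 3 ^ k = 3 ^ (2 * k)
  | 0, V, _, _, _, Q, hQ, hd => by
    classical
    have h2 := two_ne_zero_of_card_three hF
    obtain ⟨v, hv0, hv⟩ := finrank_eq_one_iff'.1 (show Module.finrank F V = 1 by omega)
    have ha : Q v ≠ 0 := fun e => hv0 (hQ.2 v fun w => by
      obtain ⟨r, rfl⟩ := hv w
      rw [map_smul, LinearMap.smul_apply, polB_self, e, mul_zero, smul_zero])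
    refine ⟨-Q v, neg_ne_zero.2 ha, ?_⟩
    haveI : IsEmpty {w : V // Q w = -Q v} := ⟨fun w => by
      obtain ⟨r, hr⟩ := hv w.1
      have := w.2
      rw [← hr, qmap_smul] at this
      have h1 : r * r = -1 := mul_right_cancel₀ ha (this.trans (neg_one_mul _).symm)
      rcases eq_of_card_three hF r with rfl | rfl | rfl
      · exact one_ne_zero (α := F) (by linear_combination h1)
      · exact h2 (by linear_combination h1)
      · exact h2 (by linear_combination h1)⟩
    simp [level]
  | k + 1, V, _, _, _, Q, hQ, hd => by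
    obtain ⟨x, y, ⟨fr⟩⟩ := exists_any_frame hQ (by omega)
    have hW := fr.finrank_eq
    obtain ⟨c, hc, h⟩ := exists_level_odd_three hF k fr.nd' (by omega)
    refine ⟨c, hc, ?_⟩
    rw [level_rec fr c, show Module.finrank F _ = 2 * k + 1 by omega, hF,
      show 2 * (k + 1) = 2 * k + 1 + 1 by ring, pow_succ 3 k, pow_succ 3 (2 * k + 1), pow_succ 3 (2 * k)]
    omega

/-- Over two elements the two levels fill the space. -/
theorem level_one_two (hF : Nat.card F = 2) : level Q 1 + level Q 0 = 2 ^ Module.finrank F V := by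
  classical
  haveI : Finite V := Module.finite_of_finite F
  rw [← hF, ← Module.natCard_eq_pow_finrank (K := F) (V := V), level, level, ← Nat.card_sum]
  refine Nat.card_congr (Equiv.trans ?_ (Equiv.sumCompl fun v : V => Q v = 1))
  refine Equiv.sumCongr (Equiv.refl _) (Equiv.subtypeEquivRight fun v => ⟨fun h e => ?_, fun h => ?_⟩)
  · exact one_ne_zero (α := F) (e.symm.trans h)
  · by_contra h0
    exact h (eq_one_of_card_two hF h0)

section transfer

variable {ι : Type} [Fintype ι] [DecidableEq ι] {Q₀ : QuadraticForm F (ι → F)}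

/-- A lower bound for `Ω` descends to `PΩ`. -/
theorem pomega_index_ge {T : ℕ} (h : ∀ K : Subgroup (Om Q₀), K ≠ ⊤ → T ≤ K.index)
    (H : Subgroup (Cfsg.POmega F ⇑Q₀)) (hH : H ≠ ⊤) : T ≤ H.index := by
  classical
  let π : Cfsg.Omega F ⇑Q₀ →* Cfsg.POmega F ⇑Q₀ :=
    QuotientGroup.mk' (Subgroup.center (Cfsg.Omega F ⇑Q₀))
  have hπ : Function.Surjective π := QuotientGroup.mk'_surjective _
  let e := omegaEquiv Q₀
  set K : Subgroup (Om Q₀) := (H.comap π).map e.toMonoidHom
  have hidx : K.index = H.index := by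
    rw [show K = (H.comap π).map (e : Cfsg.Omega F ⇑Q₀ →* Om Q₀) from rfl, Subgroup.index_map_equiv,
      Subgroup.index_comap_of_surjective H hπ]
  rw [← hidx]
  exact h K fun h' => hH (Subgroup.index_eq_one.1 (by rw [← hidx, h', Subgroup.index_top]))

/-- The stabilisers of points descend to `PΩ`. -/
theorem pomega_PS (hQ : (polB Q₀).Nondegenerate) (h5 : 5 ≤ Fintype.card ι) (z : ι → F) :
    ∃ H : Subgroup (Cfsg.POmega F ⇑Q₀), H.index = (PS Q₀ z).index := by
  classical
  have hd : 5 ≤ Module.finrank F (ι → F) := by simpa using h5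
  let Z := Subgroup.center (Cfsg.Omega F ⇑Q₀)
  let π : Cfsg.Omega F ⇑Q₀ →* Cfsg.POmega F ⇑Q₀ := QuotientGroup.mk' Z
  have hπ : Function.Surjective π := QuotientGroup.mk'_surjective Z
  let e := omegaEquiv Q₀
  set S : Subgroup (Cfsg.Omega F ⇑Q₀) := (PS Q₀ z).comap e.toMonoidHom
  have hZS : Z ≤ S := by
    intro g hg
    have hg' : e g ∈ Subgroup.center (commutator (orthGroup Q₀)) := by
      rw [← omega_center_map]
      exact ⟨g, hg, rfl⟩
    show e g ∈ PS Q₀ z
    rw [mem_PS]
    rcases center_scalar hQ hd _ hg' with h | h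
    · rw [show (e g).1 = 1 from h, orth_one_apply]
      exact Submodule.mem_span_singleton_self z
    · rw [show (e g).1 = negOrth Q₀ from h, negOrth_apply]
      exact Submodule.neg_mem _ (Submodule.mem_span_singleton_self z)
  refine ⟨S.map π, ?_⟩
  rw [Subgroup.index_map_eq _ hπ (by rwa [QuotientGroup.ker_mk']),
    Subgroup.index_comap_of_surjective _ e.surjective]

end transfer

end H48.OrSmall
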